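/-
Conjugacy in `GL_2` and `SL_2` over a field through cyclic vectors.
Main results (namespace `Cfsg.Agent.GLTwoChar`):
* `isConj_of_tr_det`: non-scalar elements of `GL_2` with the same trace and determinant are conjugate.
* `isConj_SL`: non-scalar elements of `SL_2` with the same trace whose forms `v ↦ det [v, g v]` share a value are conjugate.
* `exists_qform_eq`: the form of an element with `tr² ≠ 4` represents every non-zero value.
* `card_centralizer_GL`: the centraliser of a non-scalar `g` is `{x + y g}`.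
-/
import Cfsg.Agent.Lib.GLOrder.Two

set_option autoImplicit false

namespace Cfsg.Agent.GLTwoChar

open Matrix
open scoped MatrixGroups

variable {F : Type*} [Field F]

/-- `det [v, M v]`. -/
def qform (M : Matrix (Fin 2) (Fin 2) F) (x y : F) : F :=
  M 1 0 * x * x + (M 1 1 - M 0 0) * x * y - M 0 1 * y * y

/-- Scalar matrices. -/
def IsScalar (M : Matrix (Fin 2) (Fin 2) F) : Prop := M 0 1 = 0 ∧ M 1 0 = 0 ∧ M 0 0 = M 1 1

theorem isScalar_iff {M : Matrix (Fin 2) (Fin 2) F} : IsScalar M ↔ ∃ a : F, M = a • (1 : Matrix (Fin 2) (Fin 2) F) := by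
  constructor
  · rintro ⟨h1, h2, h3⟩
    exact ⟨M 0 0, by ext i j; fin_cases i <;> fin_cases j <;> simp [h1, h2, ← h3]⟩
  · rintro ⟨a, rfl⟩
    simp [IsScalar]

theorem exists_qform_ne_zero {M : Matrix (Fin 2) (Fin 2) F} (h : ¬ IsScalar M) :
    ∃ x y, qform M x y ≠ 0 := by
  by_contra hc
  push Not at hc
  have h1 := hc 1 0
  have h2 := hc 0 1
  have h3 := hc 1 1
  simp [qform] at h1 h2 h3
  exact h ⟨h2, h1, by linear_combination -h3 + h1 - h2⟩

/-- The matrix with columns `v`, `M v`. -/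
def cyc (M : Matrix (Fin 2) (Fin 2) F) (x y : F) : Matrix (Fin 2) (Fin 2) F :=
  !![x, M 0 0 * x + M 0 1 * y; y, M 1 0 * x + M 1 1 * y]

theorem det_cyc (M : Matrix (Fin 2) (Fin 2) F) (x y : F) : (cyc M x y).det = qform M x y := by
  simp [cyc, qform, Matrix.det_fin_two]; ring

/-- The companion matrix. -/
def comp (t d : F) : Matrix (Fin 2) (Fin 2) F := !![0, -d; 1, t]

theorem mul_cyc (M : Matrix (Fin 2) (Fin 2) F) (x y : F) :
    M * cyc M x y = cyc M x y * comp (M 0 0 + M 1 1) M.det := by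
  ext i j
  fin_cases i <;> fin_cases j <;>
    simp [cyc, comp, Matrix.mul_apply, Fin.sum_univ_two, Matrix.det_fin_two] <;> ring

theorem comp_apply_tr (t d : F) : comp t d 0 0 + comp t d 1 1 = t := by simp [comp]

theorem comp_det (t d : F) : (comp t d).det = d := by simp [comp, Matrix.det_fin_two]

theorem not_isScalar_comp (t d : F) : ¬ IsScalar (comp t d) := fun h => by simp [comp, IsScalar] at h

theorem isConj_of_tr_det {g h : GL (Fin 2) F} (hg : ¬ IsScalar (g : Matrix (Fin 2) (Fin 2) F))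
    (hh : ¬ IsScalar (h : Matrix (Fin 2) (Fin 2) F)) (ht : g 0 0 + g 1 1 = h 0 0 + h 1 1)
    (hd : (g : Matrix (Fin 2) (Fin 2) F).det = (h : Matrix (Fin 2) (Fin 2) F).det) : IsConj g h := by
  obtain ⟨x, y, hxy⟩ := exists_qform_ne_zero hg
  obtain ⟨z, w, hzw⟩ := exists_qform_ne_zero hh
  rw [← det_cyc] at hxy hzw
  let P : GL (Fin 2) F := GeneralLinearGroup.mkOfDetNeZero _ hxy
  let R : GL (Fin 2) F := GeneralLinearGroup.mkOfDetNeZero _ hzw
  refine isConj_iff.2 ⟨R * P⁻¹, ?_⟩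
  have h1 : P⁻¹ * g * P = R⁻¹ * h * R := by
    let C : Matrix (Fin 2) (Fin 2) F := comp (g 0 0 + g 1 1) (g : Matrix (Fin 2) (Fin 2) F).det
    have hC : C.det ≠ 0 := by rw [comp_det]; exact GeneralLinearGroup.det_ne_zero g
    let K : GL (Fin 2) F := GeneralLinearGroup.mkOfDetNeZero C hC
    have e1 : g * P = P * K := Units.ext (mul_cyc _ x y)
    have e2 : h * R = R * K := Units.ext (by
      refine (mul_cyc _ z w).trans ?_
      change _ = cyc _ z w * C
      rw [show C = comp (h 0 0 + h 1 1) (h : Matrix (Fin 2) (Fin 2) F).det by rw [← ht, ← hd]])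
    rw [mul_assoc, e1, mul_assoc, e2]; simp
  calc R * P⁻¹ * g * (R * P⁻¹)⁻¹ = R * (P⁻¹ * g * P) * R⁻¹ := by group
    _ = h := by rw [h1]; group

theorem isConj_SL {g h : SL(2, F)} (ht : g 0 0 + g 1 1 = h 0 0 + h 1 1)
    {x y z w : F} (hne : qform (g : Matrix (Fin 2) (Fin 2) F) x y ≠ 0)
    (heq : qform (g : Matrix (Fin 2) (Fin 2) F) x y = qform (h : Matrix (Fin 2) (Fin 2) F) z w) : IsConj g h := by
  set A : Matrix (Fin 2) (Fin 2) F := cyc (g : Matrix (Fin 2) (Fin 2) F) x y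
  set B : Matrix (Fin 2) (Fin 2) F := cyc (h : Matrix (Fin 2) (Fin 2) F) z w
  have hdA : A.det = B.det := by rw [det_cyc, det_cyc, heq]
  have hA : A.det ≠ 0 := by rw [det_cyc]; exact hne
  let T : SL(2, F) := ⟨B * A⁻¹, by rw [Matrix.det_mul, Matrix.det_nonsing_inv, ← hdA, Ring.inverse_eq_inv', mul_inv_cancel₀ hA]⟩
  have key : T * g = h * T := Subtype.ext (by
    change B * A⁻¹ * (g : Matrix (Fin 2) (Fin 2) F) = (h : Matrix (Fin 2) (Fin 2) F) * (B * A⁻¹)
    have e1 : (g : Matrix (Fin 2) (Fin 2) F) * A = A * comp (g 0 0 + g 1 1) 1 := by rw [mul_cyc, g.2]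
    have e2 : (h : Matrix (Fin 2) (Fin 2) F) * B = B * comp (g 0 0 + g 1 1) 1 := by rw [mul_cyc, h.2, ht]
    have hu : IsUnit A.det := isUnit_iff_ne_zero.2 hA
    calc B * A⁻¹ * (g : Matrix (Fin 2) (Fin 2) F)
        = B * A⁻¹ * ((g : Matrix (Fin 2) (Fin 2) F) * A) * A⁻¹ := by
          simp only [Matrix.mul_assoc, Matrix.mul_nonsing_inv _ hu, Matrix.mul_one]
      _ = B * comp (g 0 0 + g 1 1) 1 * A⁻¹ := by
          rw [e1, ← Matrix.mul_assoc, Matrix.mul_assoc B A⁻¹ A, Matrix.nonsing_inv_mul _ hu, Matrix.mul_one]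
      _ = (h : Matrix (Fin 2) (Fin 2) F) * (B * A⁻¹) := by rw [← e2, Matrix.mul_assoc])
  exact isConj_iff.2 ⟨T, by rw [key, mul_inv_cancel_right]⟩

theorem qform_comp (t d x y : F) : qform (comp t d) x y = x * x + t * x * y + d * y * y := by
  simp [qform, comp]

/-- In characteristic two every element of a finite field is a square. -/
theorem exists_sq_eq [Finite F] [CharP F 2] (c : F) : ∃ s : F, s * s = c := by
  haveI := Fintype.ofFinite F
  obtain ⟨s, hs⟩ := FiniteField.isSquare_of_char_two (ringChar.eq F 2) c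
  exact ⟨s, hs.symm⟩

theorem qform_scale (M : Matrix (Fin 2) (Fin 2) F) (x y s : F) :
    qform M (s * x) (s * y) = s * s * qform M x y := by simp [qform]; ring

theorem exists_qform_eq_char_two [Finite F] [CharP F 2] {M : Matrix (Fin 2) (Fin 2) F} (h : ¬ IsScalar M) (k : F) :
    ∃ x y, qform M x y = k := by
  obtain ⟨x, y, hxy⟩ := exists_qform_ne_zero h
  obtain ⟨s, hs⟩ := exists_sq_eq (k / qform M x y)
  exact ⟨s * x, s * y, by rw [qform_scale, hs, div_mul_cancel₀ _ hxy]⟩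

theorem exists_qform_eq [Fintype F] (h2 : (2 : F) ≠ 0) {M : Matrix (Fin 2) (Fin 2) F}
    (hdisc : (M 0 0 + M 1 1) ^ 2 - 4 * M.det ≠ 0) (k : F) : ∃ x y, qform M x y = k := by
  rw [Matrix.det_fin_two] at hdisc
  have hodd : Fintype.card F % 2 = 1 := FiniteField.odd_card_of_char_ne_two fun h => h2 (by
    have := ringChar.charP F
    rw [h] at this
    exact CharP.cast_eq_zero F 2)
  by_cases hc : M 1 0 = 0
  · have he : M 1 1 - M 0 0 ≠ 0 := by
      intro he
      exact hdisc (by rw [hc]; linear_combination (M 1 1 - M 0 0) * he)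
    refine ⟨(k + M 0 1) / (M 1 1 - M 0 0), 1, ?_⟩
    simp only [qform, hc]
    field_simp
    ring
  · set D := (M 0 0 + M 1 1) ^ 2 - 4 * (M 0 0 * M 1 1 - M 0 1 * M 1 0) with hD
    -- `4 c Q = (2 c x + e y)² - D y²`
    obtain ⟨X, Y, hXY⟩ := FiniteField.exists_root_sum_quadratic
      (f := Polynomial.X ^ 2 - Polynomial.C (4 * M 1 0 * k)) (g := Polynomial.C (-D) * Polynomial.X ^ 2)
      (by rw [Polynomial.degree_X_pow_sub_C (by norm_num : 0 < 2)]; rfl)
      (by rw [Polynomial.degree_C_mul_X_pow _ (neg_ne_zero.2 hdisc)]; rfl) hodd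
    simp only [Polynomial.eval_sub, Polynomial.eval_pow, Polynomial.eval_X, Polynomial.eval_C, Polynomial.eval_mul] at hXY
    refine ⟨(X - (M 1 1 - M 0 0) * Y) / (2 * M 1 0), Y, ?_⟩
    simp only [qform]
    field_simp
    linear_combination hXY

section centralizer

theorem centralizer_eq_span {g : GL (Fin 2) F} (hg : ¬ IsScalar (g : Matrix (Fin 2) (Fin 2) F)) {h : GL (Fin 2) F}
    (hc : h * g = g * h) :
    ∃ a b : F, (h : Matrix (Fin 2) (Fin 2) F) = a • 1 + b • (g : Matrix (Fin 2) (Fin 2) F) := by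
  obtain ⟨x, y, hxy⟩ := exists_qform_ne_zero hg
  rw [← det_cyc] at hxy
  have hu := isUnit_iff_ne_zero.2 hxy
  set A := cyc (g : Matrix (Fin 2) (Fin 2) F) x y with hA
  let u := ((A⁻¹) *ᵥ ((h : Matrix (Fin 2) (Fin 2) F) *ᵥ ![x, y]))
  refine ⟨u 0, u 1, ?_⟩
  have hAu : A *ᵥ u = (h : Matrix (Fin 2) (Fin 2) F) *ᵥ ![x, y] := by
    simp only [u, Matrix.mulVec_mulVec, ← Matrix.mul_assoc, Matrix.mul_nonsing_inv _ hu, Matrix.one_mul]
  have hsplit : A *ᵥ u = (u 0 • (1 : Matrix (Fin 2) (Fin 2) F) + u 1 • (g : Matrix (Fin 2) (Fin 2) F)) *ᵥ ![x, y] := by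
    ext i; fin_cases i <;> simp [hA, cyc, Matrix.mulVec, dotProduct, Fin.sum_univ_two] <;> ring
  rw [hAu] at hsplit
  have hcM : (h : Matrix (Fin 2) (Fin 2) F) * (g : Matrix (Fin 2) (Fin 2) F) = (g : Matrix (Fin 2) (Fin 2) F) * (h : Matrix (Fin 2) (Fin 2) F) :=
    congrArg Units.val hc
  set K := u 0 • (1 : Matrix (Fin 2) (Fin 2) F) + u 1 • (g : Matrix (Fin 2) (Fin 2) F) with hK
  have hKc : K * (g : Matrix (Fin 2) (Fin 2) F) = (g : Matrix (Fin 2) (Fin 2) F) * K := by
    simp [hK, Matrix.add_mul, Matrix.mul_add]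
  have hsplit2 : (h : Matrix (Fin 2) (Fin 2) F) *ᵥ ((g : Matrix (Fin 2) (Fin 2) F) *ᵥ ![x, y]) = K *ᵥ ((g : Matrix (Fin 2) (Fin 2) F) *ᵥ ![x, y]) := by
    rw [Matrix.mulVec_mulVec, hcM, ← Matrix.mulVec_mulVec, hsplit, Matrix.mulVec_mulVec, Matrix.mulVec_mulVec, hKc]
  have hmul : (h : Matrix (Fin 2) (Fin 2) F) * A = K * A := by
    ext i j
    have e1 := congrFun hsplit i
    have e2 := congrFun hsplit2 i
    simp [Matrix.mulVec, dotProduct, Fin.sum_univ_two] at e1 e2
    fin_cases j <;> simp [hA, cyc, Matrix.mul_apply, Fin.sum_univ_two]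
    · exact e1
    · exact e2
  have := congrArg (· * A⁻¹) hmul
  simpa [Matrix.mul_assoc, Matrix.mul_nonsing_inv _ hu] using this

theorem card_centralizer_GL [Finite F] {g : GL (Fin 2) F} (hg : ¬ IsScalar (g : Matrix (Fin 2) (Fin 2) F)) :
    Nat.card (Subgroup.centralizer ({g} : Set (GL (Fin 2) F))) =
      Nat.card {p : F × F // (p.1 • (1 : Matrix (Fin 2) (Fin 2) F) + p.2 • (g : Matrix (Fin 2) (Fin 2) F)).det ≠ 0} := by
  let f : {p : F × F // (p.1 • (1 : Matrix (Fin 2) (Fin 2) F) + p.2 • (g : Matrix (Fin 2) (Fin 2) F)).det ≠ 0} →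
      Subgroup.centralizer ({g} : Set (GL (Fin 2) F)) := fun p =>
    ⟨GeneralLinearGroup.mkOfDetNeZero _ p.2, by
      rw [Subgroup.mem_centralizer_singleton_iff]
      refine Units.ext ?_
      simp [GLOrder.coe_mkOfDetNeZero, Matrix.add_mul, Matrix.mul_add]⟩
  refine (Nat.card_congr (Equiv.ofBijective f ⟨?_, ?_⟩)).symm
  · rintro ⟨⟨a, b⟩, h1⟩ ⟨⟨a', b'⟩, h2⟩ h
    have h3 : a • (1 : Matrix (Fin 2) (Fin 2) F) + b • (g : Matrix (Fin 2) (Fin 2) F) =
        a' • 1 + b' • (g : Matrix (Fin 2) (Fin 2) F) :=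
      congrArg (fun x : Subgroup.centralizer ({g} : Set (GL (Fin 2) F)) => ((x : GL (Fin 2) F) : Matrix (Fin 2) (Fin 2) F)) h
    have e00 := congrFun (congrFun h3 0) 0
    have e01 := congrFun (congrFun h3 0) 1
    have e10 := congrFun (congrFun h3 1) 0
    have e11 := congrFun (congrFun h3 1) 1
    simp at e00 e01 e10 e11
    have hb : b = b' := by
      by_contra hne
      have hne' := sub_ne_zero.2 hne
      refine hg ⟨?_, ?_, ?_⟩
      · exact e01.resolve_left hne
      · exact e10.resolve_left hne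
      · refine mul_left_cancel₀ hne' ?_
        linear_combination e00 - e11
    subst hb
    simp only [Subtype.mk.injEq, Prod.mk.injEq, and_true]
    exact add_right_cancel e00
  · rintro ⟨h, hh⟩
    obtain ⟨a, b, hab⟩ := centralizer_eq_span hg ((Subgroup.mem_centralizer_singleton_iff.1 hh))
    exact ⟨⟨(a, b), by rw [← hab]; exact GeneralLinearGroup.det_ne_zero h⟩, Subtype.ext (Units.ext hab.symm)⟩

end centralizer

end Cfsg.Agent.GLTwoChar
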