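/-
Characters induced from the Borel subgroup of a group between `SL_2` and `GL_2`, and cuspidal characters.
A `Datum` is an embedding `G →* GL_2` whose image contains `SL_2` (used for `G = GL_2` and `G = SL_2`).
Main results (namespace `Cfsg.Agent.GLTwoChar.Datum`):
* `indFun_apply`, `indFun_ell`, `indFun_borel`, `indFun_unip`: values of a principal series character.
* `classInner_indFun`: `⟨I θ, I η⟩ = [θ = η] + [θ = η^w]`.
* `Cusp`, `cusp_iff`, `cusp_apply_borel`: cuspidal characters.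
-/
import Cfsg.Agent.Lib.GLTwoChar.Matrix
import Cfsg.Agent.Lib.Char.Orth
import Cfsg.Agent.Lib.Char.Induced
import Cfsg.Agent.Lib.Char.Linear

set_option autoImplicit false
set_option linter.unusedSectionVars false

namespace Cfsg.Agent.GLTwoChar

open Matrix Cfsg
open scoped MatrixGroups ComplexConjugate

/-- An embedding of `G` in `GL_2` with image containing `SL_2`. -/
structure Datum (F : Type*) [Field F] (G : Type*) [Group G] where
  ι : G →* GL (Fin 2) F
  inj : Function.Injective ι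
  sl_le : ∀ s : SL(2, F), ∃ g, ι g = SpecialLinearGroup.toGL s

/-- `GL_2` itself. -/
def glDatum (F : Type*) [Field F] : Datum F (GL (Fin 2) F) :=
  ⟨MonoidHom.id _, fun _ _ h => h, fun _ => ⟨_, rfl⟩⟩

/-- `SL_2`. -/
def slDatum (F : Type*) [Field F] : Datum F SL(2, F) :=
  ⟨SpecialLinearGroup.toGL, SpecialLinearGroup.toGL_injective, fun s => ⟨s, rfl⟩⟩

namespace Datum

variable {F : Type*} [Field F] {G : Type*} [Group G] (D : Datum F G)

/-- The matrix of an element. -/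
def M (g : G) : Matrix (Fin 2) (Fin 2) F := (D.ι g : Matrix (Fin 2) (Fin 2) F)

theorem M_mul (g h : G) : D.M (g * h) = D.M g * D.M h := by simp [M]

theorem M_mul_apply (g h : G) (i j : Fin 2) :
    D.M (g * h) i j = D.M g i 0 * D.M h 0 j + D.M g i 1 * D.M h 1 j := by
  rw [M_mul, Matrix.mul_apply, Fin.sum_univ_two]

theorem M_one : D.M 1 = 1 := by simp [M]

theorem ext {g h : G} (h' : D.M g = D.M h) : g = h := D.inj (Units.ext h')

theorem det_ne_zero (g : G) : D.M g 0 0 * D.M g 1 1 - D.M g 0 1 * D.M g 1 0 ≠ 0 :=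
  GLOrder.GL2_det (D.ι g)

/-- The element of `G` over an element of `SL_2`. -/
noncomputable def el (s : SL(2, F)) : G := (D.sl_le s).choose

theorem ι_el (s : SL(2, F)) : D.ι (D.el s) = SpecialLinearGroup.toGL s := (D.sl_le s).choose_spec

theorem M_el (s : SL(2, F)) : D.M (D.el s) = (s : Matrix (Fin 2) (Fin 2) F) := congrArg Units.val (D.ι_el s)

theorem el_mul (s t : SL(2, F)) : D.el (s * t) = D.el s * D.el t :=
  D.inj (by rw [map_mul, D.ι_el, D.ι_el, D.ι_el, map_mul])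

theorem el_one : D.el (1 : SL(2, F)) = 1 := D.inj (by rw [D.ι_el, map_one, map_one])

theorem el_inv (s : SL(2, F)) : D.el s⁻¹ = (D.el s)⁻¹ :=
  eq_inv_of_mul_eq_one_left (by rw [← D.el_mul, inv_mul_cancel, el_one])

/-- Unipotent elements. -/
noncomputable def u (s : F) : G := D.el ⟨!![1, s; 0, 1], by simp [Matrix.det_fin_two]⟩

theorem M_u (s : F) : D.M (D.u s) = !![1, s; 0, 1] := D.M_el _

theorem u_add (s t : F) : D.u (s + t) = D.u s * D.u t :=
  D.ext (by rw [M_mul, M_u, M_u, M_u]; ext i j; fin_cases i <;> fin_cases j <;> simp [add_comm])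

theorem u_zero : D.u 0 = 1 := D.ext (by rw [M_u, M_one, Matrix.one_fin_two])

theorem u_inv (s : F) : (D.u s)⁻¹ = D.u (-s) :=
  inv_eq_of_mul_eq_one_right (by rw [← u_add, add_neg_cancel, u_zero])

/-- Coset representatives other than `1`. -/
noncomputable def x (c : F) : G := D.el ⟨!![c, -1; 1, 0], by simp [Matrix.det_fin_two]⟩

theorem M_x (c : F) : D.M (D.x c) = !![c, -1; 1, 0] := D.M_el _

theorem M_x_inv (c : F) : D.M (D.x c)⁻¹ = !![0, 1; -1, c] := by
  have h : (D.x c)⁻¹ = D.el ⟨!![0, 1; -1, c], by simp [Matrix.det_fin_two]⟩ :=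
    inv_eq_of_mul_eq_one_right (D.ext (by
      rw [M_mul, M_x, M_one]
      erw [D.M_el]
      ext i j
      fin_cases i <;> fin_cases j <;> simp [Matrix.mul_apply, Fin.sum_univ_two]))
  rw [h]
  exact D.M_el _

/-- The Borel subgroup. -/
def B : Subgroup G := (upperTriangularGL 2 F).comap D.ι

theorem mem_B {g : G} : g ∈ D.B ↔ D.M g 1 0 = 0 := by
  constructor
  · intro h
    exact h (show id (0 : Fin 2) < id 1 by decide)
  · intro h i j hij
    fin_cases i <;> fin_cases j <;> simp [M] at h hij ⊢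
    exact h

theorem diag_ne_zero (b : D.B) : D.M b 0 0 ≠ 0 ∧ D.M b 1 1 ≠ 0 := by
  have h := D.det_ne_zero b
  rw [D.mem_B.1 b.2, mul_zero, sub_zero] at h
  exact ⟨left_ne_zero_of_mul h, right_ne_zero_of_mul h⟩

theorem M_mul_diag (a b : D.B) :
    D.M (a * b : D.B) 0 0 = D.M a 0 0 * D.M b 0 0 ∧ D.M (a * b : D.B) 1 1 = D.M a 1 1 * D.M b 1 1 := by
  constructor <;> rw [Subgroup.coe_mul, M_mul_apply] <;> simp [D.mem_B.1 a.2, D.mem_B.1 b.2]

theorem u_mem (s : F) : D.u s ∈ D.B := D.mem_B.2 (by simp [M_u])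

/-- `D.u s` in `D.B`. -/
noncomputable def uB (s : F) : D.B := ⟨D.u s, D.u_mem s⟩

theorem M_uB (s : F) : D.M (D.uB s : G) = !![1, s; 0, 1] := D.M_u s

theorem diag_inv (b : D.B) :
    D.M (b⁻¹ : D.B) 0 0 = (D.M b 0 0)⁻¹ ∧ D.M (b⁻¹ : D.B) 1 1 = (D.M b 1 1)⁻¹ := by
  obtain ⟨h1, h2⟩ := D.M_mul_diag b⁻¹ b
  rw [inv_mul_cancel, Subgroup.coe_one, M_one, Matrix.one_apply_eq] at h1 h2
  exact ⟨eq_inv_of_mul_eq_one_left h1.symm, eq_inv_of_mul_eq_one_left h2.symm⟩

/-- Linear characters trivial on the unipotent subgroup. -/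
def IsT (θ : D.B →* ℂ) : Prop := ∀ b : D.B, D.M b 0 0 = 1 → D.M b 1 1 = 1 → θ b = 1

theorem IsT.congr {θ : D.B →* ℂ} (hθ : D.IsT θ) {b b' : D.B} (h0 : D.M b 0 0 = D.M b' 0 0)
    (h1 : D.M b 1 1 = D.M b' 1 1) : θ b = θ b' := by
  have h : θ (b'⁻¹ * b) = 1 := by
    apply hθ
    · rw [(D.M_mul_diag _ _).1, (D.diag_inv _).1, h0, inv_mul_cancel₀ (D.diag_ne_zero b').1]
    · rw [(D.M_mul_diag _ _).2, (D.diag_inv _).2, h1, inv_mul_cancel₀ (D.diag_ne_zero b').2]
  calc θ b = θ (b' * (b'⁻¹ * b)) := by rw [mul_inv_cancel_left]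
    _ = θ b' := by rw [map_mul, h, mul_one]

/-- The diagonal part. -/
noncomputable def pr (b : D.B) : D.B := b * D.uB (-(D.M b 0 1) / D.M b 0 0)

theorem M_pr (b : D.B) : D.M (D.pr b) 0 1 = 0 ∧ D.M (D.pr b) 0 0 = D.M b 0 0 ∧ D.M (D.pr b) 1 1 = D.M b 1 1 := by
  have ha := (D.diag_ne_zero b).1
  simp only [pr, Subgroup.coe_mul, M_mul_apply, M_uB, D.mem_B.1 b.2]
  refine ⟨?_, by simp, by simp⟩
  simp
  field_simp
  ring

theorem x_conj_mem_iff (b : D.B) (c : F) :
    (D.x c)⁻¹ * b * D.x c ∈ D.B ↔ c * D.M b 0 0 + D.M b 0 1 = c * D.M b 1 1 := by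
  rw [mem_B]
  simp only [M_mul_apply, M_x_inv, M_x, D.mem_B.1 b.2]
  simp
  constructor <;> intro h <;> linear_combination -h

theorem M_x_conj (b : D.B) (c : F) :
    D.M ((D.x c)⁻¹ * b * D.x c) 0 0 = D.M b 1 1 ∧ D.M ((D.x c)⁻¹ * b * D.x c) 1 1 = D.M b 0 0 := by
  simp only [M_mul_apply, M_x_inv, M_x, D.mem_B.1 b.2]
  simp

/-- An element with exchanged diagonal. -/
noncomputable def swap (b : D.B) : D.B :=
  ⟨(D.x 0)⁻¹ * (D.pr b : D.B) * D.x 0, (D.x_conj_mem_iff _ _).2 (by simp [(D.M_pr b).1])⟩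

theorem M_swap (b : D.B) : D.M (D.swap b) 0 0 = D.M b 1 1 ∧ D.M (D.swap b) 1 1 = D.M b 0 0 := by
  refine ⟨(D.M_x_conj (D.pr b) 0).1.trans (D.M_pr b).2.2, (D.M_x_conj (D.pr b) 0).2.trans (D.M_pr b).2.1⟩

/-- The conjugate character by the Weyl element. -/
noncomputable def tw {θ : D.B →* ℂ} (hθ : D.IsT θ) : D.B →* ℂ where
  toFun b := θ (D.swap b)
  map_one' := hθ _ (by rw [(D.M_swap 1).1, Subgroup.coe_one, M_one, Matrix.one_apply_eq])
    (by rw [(D.M_swap 1).2, Subgroup.coe_one, M_one, Matrix.one_apply_eq])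
  map_mul' a b := by
    rw [← map_mul]
    refine hθ.congr D ?_ ?_
    · rw [(D.M_swap _).1, (D.M_mul_diag _ _).2, (D.M_mul_diag _ _).1, (D.M_swap a).1, (D.M_swap b).1]
    · rw [(D.M_swap _).2, (D.M_mul_diag _ _).1, (D.M_mul_diag _ _).2, (D.M_swap a).2, (D.M_swap b).2]

theorem isT_tw {θ : D.B →* ℂ} (hθ : D.IsT θ) : D.IsT (D.tw hθ) := fun b h0 h1 =>
  hθ _ ((D.M_swap b).1.trans h1) ((D.M_swap b).2.trans h0)

theorem tw_apply {θ : D.B →* ℂ} (hθ : D.IsT θ) (b b' : D.B) (h0 : D.M b' 0 0 = D.M b 1 1)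
    (h1 : D.M b' 1 1 = D.M b 0 0) : D.tw hθ b = θ b' :=
  hθ.congr D ((D.M_swap b).1.trans h0.symm) ((D.M_swap b).2.trans h1.symm)

theorem tw_tw {θ : D.B →* ℂ} (hθ : D.IsT θ) : D.tw (D.isT_tw hθ) = θ :=
  MonoidHom.ext fun b => hθ.congr D ((D.M_swap _).1.trans (D.M_swap b).2) ((D.M_swap _).2.trans (D.M_swap b).1)

/-- `g` has no eigenvector. -/
def IsEll (g : G) : Prop := ∀ (c : F) (v : Fin 2 → F), v ≠ 0 → (D.M g).mulVec v ≠ c • v

theorem not_conj_mem_of_isEll {g : G} (hg : D.IsEll g) (r : G) : r⁻¹ * g * r ∉ D.B := by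
  intro h
  set y := r⁻¹ * g * r with hy
  have e : g * r = r * y := by rw [hy]; group
  have h0 := fun i => (D.M_mul_apply g r i 0).symm.trans ((congrArg (fun z => D.M z i 0) e).trans (D.M_mul_apply r y i 0))
  simp only [D.mem_B.1 h, mul_zero, add_zero] at h0
  refine hg (D.M y 0 0) ![D.M r 0 0, D.M r 1 0] (fun hv => D.det_ne_zero r ?_) ?_
  · have a0 := congrFun hv 0
    have a1 := congrFun hv 1
    simp at a0 a1
    rw [a0, a1]; ring
  · ext i
    simp [Matrix.mulVec, dotProduct, Fin.sum_univ_two]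
    fin_cases i <;> simp
    · linear_combination h0 0
    · linear_combination h0 1

section fin

variable [Fintype F] [Fintype G] [Fintype D.B]

/-- The set of coset representatives is complete. -/
theorem sum_cosets (f : G → ℂ) : ∑ g, f g = ∑ b : D.B, f b + ∑ c : F, ∑ b : D.B, f (D.x c * b) := by
  let Φ : D.B ⊕ F × D.B → G := Sum.elim (fun b => (b : G)) (fun cb => D.x cb.1 * cb.2)
  have h10 : ∀ (c : F) (b : D.B), D.M (D.x c * b) 1 0 = D.M b 0 0 ∧ D.M (D.x c * b) 0 0 = c * D.M b 0 0 := by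
    intro c b
    simp [M_mul_apply, M_x, D.mem_B.1 b.2]
  have hbij : Function.Bijective Φ := by
    constructor
    · rintro (b | ⟨c, b⟩) (b' | ⟨c', b'⟩) h
      · exact congrArg Sum.inl (Subtype.ext h)
      · exact absurd ((h10 c' b').1.symm.trans ((congrArg (fun z => D.M z 1 0) h).symm.trans (D.mem_B.1 b.2))) (D.diag_ne_zero b').1
      · exact absurd ((h10 c b).1.symm.trans ((congrArg (fun z => D.M z 1 0) h).trans (D.mem_B.1 b'.2))) (D.diag_ne_zero b).1
      · have e1 : D.M b 0 0 = D.M b' 0 0 := (h10 c b).1.symm.trans ((congrArg (fun z => D.M z 1 0) h).trans (h10 c' b').1)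
        have e2 : c * D.M b 0 0 = c' * D.M b' 0 0 := (h10 c b).2.symm.trans ((congrArg (fun z => D.M z 0 0) h).trans (h10 c' b').2)
        rw [← e1] at e2
        obtain rfl := mul_right_cancel₀ (D.diag_ne_zero b).1 e2
        exact congrArg (fun z => Sum.inr (c, z)) (Subtype.ext (mul_left_cancel h))
    · intro g
      by_cases hg : g ∈ D.B
      · exact ⟨Sum.inl ⟨g, hg⟩, rfl⟩
      · rw [mem_B] at hg
        refine ⟨Sum.inr (D.M g 0 0 / D.M g 1 0, ⟨(D.x (D.M g 0 0 / D.M g 1 0))⁻¹ * g, D.mem_B.2 ?_⟩),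
          mul_inv_cancel_left _ _⟩
        simp [M_mul_apply, M_x_inv]
        field_simp
        ring
  rw [← Fintype.sum_bijective Φ hbij (fun z => f (Φ z)) f (fun _ => rfl), Fintype.sum_sum_type, Fintype.sum_prod_type]
  rfl

theorem extendByZero_conj (θ : D.B →* ℂ) (b : D.B) (y : G) :
    extendByZero D.B θ ((b : G)⁻¹ * y * b) = extendByZero D.B θ y := by
  have hne : θ b ≠ 0 := ((Group.isUnit b).map θ).ne_zero
  by_cases hy : y ∈ D.B
  · rw [Char.extendByZero_mem D.B θ hy, Char.extendByZero_mem D.B θ (mul_mem (mul_mem (inv_mem b.2) hy) b.2)]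
    rw [show (⟨(b : G)⁻¹ * y * b, _⟩ : D.B) = b⁻¹ * ⟨y, hy⟩ * b from rfl, map_mul, map_mul, mul_comm (θ b⁻¹), mul_assoc,
      ← map_mul θ b⁻¹ b, inv_mul_cancel, map_one, mul_one]
  · rw [Char.extendByZero_not_mem D.B θ hy, Char.extendByZero_not_mem D.B θ fun h => hy ?_]
    have := mul_mem (mul_mem b.2 h) (inv_mem b.2)
    rwa [show (b : G) * ((b : G)⁻¹ * y * b) * (b : G)⁻¹ = y by group] at this

theorem indFun_apply (θ : D.B →* ℂ) (g : G) :
    indFun D.B θ g = extendByZero D.B θ g + ∑ c : F, extendByZero D.B θ ((D.x c)⁻¹ * g * D.x c) := by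
  rw [indFun, D.sum_cosets, Nat.card_eq_fintype_card]
  have h : ∀ c : F, ∑ b : D.B, extendByZero D.B θ ((D.x c * b)⁻¹ * g * (D.x c * b)) =
      (Fintype.card D.B : ℂ) * extendByZero D.B θ ((D.x c)⁻¹ * g * D.x c) := by
    intro c
    rw [Finset.sum_congr rfl (fun b _ => by
      rw [show (D.x c * (b : G))⁻¹ * g * (D.x c * b) = (b : G)⁻¹ * ((D.x c)⁻¹ * g * D.x c) * b by group, D.extendByZero_conj]),
      Finset.sum_const, Finset.card_univ, nsmul_eq_mul]
  rw [Finset.sum_congr rfl (fun b _ => D.extendByZero_conj θ b g), Finset.sum_const, Finset.card_univ, nsmul_eq_mul,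
    Finset.sum_congr rfl (fun c _ => h c), ← Finset.mul_sum, ← mul_add, inv_mul_cancel_left₀]
  exact Nat.cast_ne_zero.2 Fintype.card_ne_zero

theorem indFun_one (θ : D.B →* ℂ) : indFun D.B θ 1 = (Fintype.card F : ℂ) + 1 := by
  rw [indFun_apply]
  have h : extendByZero D.B θ (1 : G) = 1 := (Char.extendByZero_mem D.B θ (one_mem _)).trans (map_one θ)
  simp [h, add_comm]

theorem indFun_ell (θ : D.B →* ℂ) {g : G} (hg : D.IsEll g) : indFun D.B θ g = 0 := by
  rw [indFun_apply, Char.extendByZero_not_mem D.B θ (fun h => D.not_conj_mem_of_isEll hg 1 (by simpa using h)),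
    Finset.sum_eq_zero (fun c _ => Char.extendByZero_not_mem D.B θ (D.not_conj_mem_of_isEll hg _)), add_zero]

open Classical in
theorem indFun_borel {θ : D.B →* ℂ} (hθ : D.IsT θ) (b : D.B) :
    indFun D.B θ b = θ b +
      ∑ c : F, if c * D.M b 0 0 + D.M b 0 1 = c * D.M b 1 1 then D.tw hθ b else 0 := by
  rw [indFun_apply, Char.extendByZero_coe]
  congr 1
  refine Finset.sum_congr rfl fun c _ => ?_
  split_ifs with h
  · rw [Char.extendByZero_mem D.B θ ((D.x_conj_mem_iff b c).2 h)]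
    exact (D.tw_apply hθ b ⟨_, (D.x_conj_mem_iff b c).2 h⟩ (D.M_x_conj b c).1 (D.M_x_conj b c).2).symm
  · exact Char.extendByZero_not_mem D.B θ fun h' => h ((D.x_conj_mem_iff b c).1 h')

theorem indFun_regular {θ : D.B →* ℂ} (hθ : D.IsT θ) (b : D.B) (h : D.M b 0 0 ≠ D.M b 1 1) :
    indFun D.B θ b = θ b + D.tw hθ b := by
  classical
  rw [D.indFun_borel hθ, Finset.sum_eq_single (D.M b 0 1 / (D.M b 1 1 - D.M b 0 0))]
  · rw [if_pos]
    have := sub_ne_zero.2 (Ne.symm h)
    field_simp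
    ring
  · intro c _ hc
    rw [if_neg]
    intro h'
    apply hc
    rw [eq_div_iff (sub_ne_zero.2 (Ne.symm h))]
    linear_combination -h'
  · intro h'; exact absurd (Finset.mem_univ _) h'

theorem indFun_unip {θ : D.B →* ℂ} (hθ : D.IsT θ) (b : D.B) (h : D.M b 0 0 = D.M b 1 1) (hb : D.M b 0 1 ≠ 0) :
    indFun D.B θ b = θ b := by
  classical
  rw [D.indFun_borel hθ, Finset.sum_eq_zero, add_zero]
  intro c _
  rw [if_neg]
  intro h'
  rw [h] at h'
  exact hb (by linear_combination h')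

theorem indFun_scalar {θ : D.B →* ℂ} (hθ : D.IsT θ) (b : D.B) (h : D.M b 0 0 = D.M b 1 1) (hb : D.M b 0 1 = 0) :
    indFun D.B θ b = ((Fintype.card F : ℂ) + 1) * θ b := by
  classical
  rw [D.indFun_borel hθ, Finset.sum_congr rfl (fun c _ => if_pos (by rw [h, hb, add_zero])), Finset.sum_const,
    Finset.card_univ, nsmul_eq_mul, show D.tw hθ b = θ b from D.tw_apply hθ b b h h.symm]
  ring

/-- Diagonal elements. -/
abbrev T : Type _ := {b : D.B // D.M b 0 1 = 0}

/-- `B = T U`. -/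
noncomputable def tuEquiv : D.T × F ≃ D.B where
  toFun p := p.1.1 * D.uB p.2
  invFun b := (⟨D.pr b, (D.M_pr b).1⟩, D.M b 0 1 / D.M b 0 0)
  left_inv p := by
    obtain ⟨⟨t, ht⟩, s⟩ := p
    have ha := (D.diag_ne_zero t).1
    have h1 : D.M (t * D.uB s : D.B) 0 1 = D.M t 0 0 * s := by simp [M_mul_apply, M_uB, ht]
    have h2 : D.M (t * D.uB s : D.B) 0 0 = D.M t 0 0 := by simp [M_mul_apply, M_uB]
    refine Prod.ext (Subtype.ext ?_) ?_
    · change D.pr (t * D.uB s) = t
      rw [pr, h1, h2, mul_assoc, show -(D.M t 0 0 * s) / D.M t 0 0 = -s by field_simp]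
      rw [show D.uB s * D.uB (-s) = 1 from Subtype.ext (by simp [uB, ← u_add, u_zero]), mul_one]
    · change D.M (t * D.uB s : D.B) 0 1 / D.M (t * D.uB s : D.B) 0 0 = s
      rw [h1, h2, mul_div_cancel_left₀ _ ha]
  right_inv b := by
    change D.pr b * D.uB (D.M b 0 1 / D.M b 0 0) = b
    rw [pr, mul_assoc, show D.uB (-(D.M b 0 1) / D.M b 0 0) * D.uB (D.M b 0 1 / D.M b 0 0) = 1 from
      Subtype.ext (by simp [uB, ← u_add, neg_div, u_zero]), mul_one]

theorem tuEquiv_diag (p : D.T × F) :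
    D.M (D.tuEquiv p) 0 0 = D.M p.1.1 0 0 ∧ D.M (D.tuEquiv p) 1 1 = D.M p.1.1 1 1 := by
  constructor <;> simp [tuEquiv, M_mul_apply, M_uB, D.mem_B.1 p.1.1.2]

/-- A function of the diagonal summed over `{b : b fixes the line of c}`. -/
theorem sum_fixing (c : F) (f : D.B → ℂ) (hf : ∀ b b' : D.B, D.M b 0 0 = D.M b' 0 0 → D.M b 1 1 = D.M b' 1 1 → f b = f b')
    [DecidablePred fun b : D.B => c * D.M b 0 0 + D.M b 0 1 = c * D.M b 1 1] [Fintype D.T] :
    ∑ b : D.B, (if c * D.M b 0 0 + D.M b 0 1 = c * D.M b 1 1 then f b else 0) = ∑ t : D.T, f t := by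
  rw [← Finset.sum_filter]
  refine Finset.sum_bij' (fun b _ => (⟨D.pr b, (D.M_pr b).1⟩ : D.T)) (fun t _ => D.uB c * t.1 * D.uB (-c))
    (fun _ _ => Finset.mem_univ _) ?_ ?_ ?_ ?_
  · intro t _
    simp only [Finset.mem_filter, Finset.mem_univ, true_and]
    simp [M_mul_apply, M_uB, D.mem_B.1 t.1.2, t.2]
    ring
  · intro b hb
    simp only [Finset.mem_filter, Finset.mem_univ, true_and] at hb
    refine Subtype.ext (D.ext ?_)
    have ha := (D.diag_ne_zero b).1
    ext i j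
    fin_cases i <;> fin_cases j <;>
      simp [M_mul_apply, M_uB, (D.M_pr b).1, (D.M_pr b).2.1, (D.M_pr b).2.2, D.mem_B.1 (D.pr b).2, D.mem_B.1 b.2]
    linear_combination -hb
  · intro t _
    refine Subtype.ext (Subtype.ext (D.ext ?_))
    ext i j
    fin_cases i <;> fin_cases j <;>
      simp [M_mul_apply, M_uB, t.2, D.mem_B.1 t.1.2, (D.M_pr _).1, (D.M_pr _).2.1, (D.M_pr _).2.2,
        D.mem_B.1 (D.pr _).2]
  · intro b _
    exact hf _ _ (D.M_pr b).2.1.symm (D.M_pr b).2.2.symm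

open Classical in
/-- Orthogonality of principal series. -/
theorem classInner_indFun {θ η : D.B →* ℂ} (hθ : D.IsT θ) (hη : D.IsT η) :
    classInner (indFun D.B θ) (indFun D.B η) =
      (if θ = η then 1 else 0) + (if θ = D.tw hη then 1 else 0) := by
  have hT : Fintype D.T := inferInstance
  rw [Char.frobenius_reciprocity D.B θ (Char.indFun_isClassFunction D.B η)]
  have hlin : ∀ l l' : D.B →* ℂ, classInner (⇑l : D.B → ℂ) ⇑l' = if l = l' then 1 else 0 := fun l l' => by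
    rw [Char.classInner_irr (Char.isIrrCharacter_of_hom l) (Char.isIrrCharacter_of_hom l')]
    simp [DFunLike.coe_fn_eq]
  have key : ∑ b : D.B, θ b * conj (∑ c : F, if c * D.M b 0 0 + D.M b 0 1 = c * D.M b 1 1 then D.tw hη b else 0) =
      ∑ b : D.B, θ b * conj (D.tw hη b) := by
    have hf : ∀ b b' : D.B, D.M b 0 0 = D.M b' 0 0 → D.M b 1 1 = D.M b' 1 1 →
        θ b * conj (D.tw hη b) = θ b' * conj (D.tw hη b') := fun b b' h0 h1 => by
      rw [hθ.congr D h0 h1, (D.isT_tw hη).congr D h0 h1]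
    calc ∑ b : D.B, θ b * conj (∑ c : F, if c * D.M b 0 0 + D.M b 0 1 = c * D.M b 1 1 then D.tw hη b else 0)
        = ∑ c : F, ∑ b : D.B, (if c * D.M b 0 0 + D.M b 0 1 = c * D.M b 1 1 then θ b * conj (D.tw hη b) else 0) := by
          rw [Finset.sum_comm]
          refine Finset.sum_congr rfl fun b _ => ?_
          rw [map_sum, Finset.mul_sum]
          refine Finset.sum_congr rfl fun c _ => ?_
          split_ifs <;> simp
      _ = ∑ _c : F, ∑ t : D.T, θ t * conj (D.tw hη t) := Finset.sum_congr rfl fun c _ => D.sum_fixing c _ hf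
      _ = ∑ p : D.T × F, θ (D.tuEquiv p) * conj (D.tw hη (D.tuEquiv p)) := by
          rw [Fintype.sum_prod_type, Finset.sum_comm]
          exact Finset.sum_congr rfl fun t _ => Finset.sum_congr rfl fun c _ =>
            hf _ _ (D.tuEquiv_diag (t, c)).1.symm (D.tuEquiv_diag (t, c)).2.symm
      _ = _ := D.tuEquiv.sum_comp fun b => θ b * conj (D.tw hη b)
  rw [← hlin θ η, ← hlin θ (D.tw hη)]
  simp only [classInner, ← mul_add, ← Finset.sum_add_distrib]
  rw [Finset.sum_congr rfl (fun b _ => by rw [D.indFun_borel hη b, map_add, mul_add]), Finset.sum_add_distrib, key,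
    ← Finset.sum_add_distrib]
  exact congrArg _ (Finset.sum_congr rfl fun _ _ => (mul_add _ _ _).symm)

theorem isCharacter_indFun (θ : D.B →* ℂ) : IsCharacter G (indFun D.B θ) :=
  Char.IsCharacter.indFun D.B (Char.isCharacter_of_hom θ)

theorem isIrr_indFun_iff {θ : D.B →* ℂ} (hθ : D.IsT θ) :
    IsIrrCharacter G (indFun D.B θ) ↔ θ ≠ D.tw hθ := by
  classical
  rw [Char.isIrrCharacter_iff_norm_one (D.isCharacter_indFun θ), D.classInner_indFun hθ hθ, if_pos rfl]
  by_cases h : θ = D.tw hθ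
  · rw [if_pos h]
    exact iff_of_false (by norm_num) (fun h' => h' h)
  · rw [if_neg h]
    exact iff_of_true (add_zero _) h

theorem indFun_tw {θ : D.B →* ℂ} (hθ : D.IsT θ) : indFun D.B (D.tw hθ) = indFun D.B θ := by
  classical
  rw [← sub_eq_zero, ← Char.classInner_self_eq_zero, Char.classInner_sub_left, Char.classInner_sub_right,
    Char.classInner_sub_right, D.classInner_indFun hθ hθ, D.classInner_indFun hθ (D.isT_tw hθ),
    D.classInner_indFun (D.isT_tw hθ) hθ, D.classInner_indFun (D.isT_tw hθ) (D.isT_tw hθ)]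
  rw [D.tw_tw hθ]
  by_cases h : θ = D.tw hθ
  · simp [← h]
  · simp [h, Ne.symm h]

theorem indFun_eq_iff {θ η : D.B →* ℂ} (hθ : D.IsT θ) (hη : D.IsT η) :
    indFun D.B θ = indFun D.B η ↔ θ = η ∨ θ = D.tw hη := by
  classical
  constructor
  · intro h
    have h1 := D.classInner_indFun hθ hη
    rw [← h, D.classInner_indFun hθ hθ, if_pos rfl] at h1
    by_contra hc
    push Not at hc
    rw [if_neg hc.1, if_neg hc.2, add_zero] at h1
    split_ifs at h1 <;> norm_num at h1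
  · rintro (rfl | rfl)
    · rfl
    · exact D.indFun_tw hη

/-- Cuspidal: the unipotent subgroup has no fixed vector. -/
def Cusp (χ : G → ℂ) : Prop := ∑ s : F, χ (D.u s) = 0

theorem sum_unip_eq (χ : G → ℂ) (hχ : IsClassFunction G χ) (b : D.B) (h : D.M b 0 0 ≠ D.M b 1 1) (s : F) :
    χ (b * D.u s) = χ b := by
  set a := D.M b 0 0 with ha
  set d := D.M b 1 1 with hd
  have hsub : a - d ≠ 0 := sub_ne_zero.2 h
  have e : (b : G) * D.u s = D.u (-(a * s / (a - d))) * b * (D.u (-(a * s / (a - d))))⁻¹ := by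
    rw [D.u_inv]
    refine D.ext ?_
    have h10 := D.mem_B.1 b.2
    ext i j
    fin_cases i <;> fin_cases j <;> simp [M_mul_apply, M_u, h10, ← ha, ← hd]
    field_simp
    ring
  rw [e]
  exact hχ _ _

theorem Cusp.sum_mul_eq_zero {χ : G → ℂ} (hc : D.Cusp χ) (hχ : IsCharacter G χ) (g : G) :
    ∑ s : F, χ (g * D.u s) = 0 := by
  obtain ⟨n, ρ, rfl⟩ := hχ
  let uh : Multiplicative F →* G :=
    ⟨⟨fun s => D.u s.toAdd, D.u_zero⟩, fun s t => D.u_add _ _⟩
  let σ : Representation ℂ (Multiplicative F) (Fin n → ℂ) := ρ.comp uh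
  have : Invertible (Fintype.card (Multiplicative F) : ℂ) := invertibleOfNonzero (Nat.cast_ne_zero.2 Fintype.card_ne_zero)
  have h0 := (σ.isProj_averageMap).trace
  have h1 : LinearMap.trace ℂ _ σ.averageMap = ⅟(Fintype.card (Multiplicative F) : ℂ) * ∑ s : Multiplicative F, σ.character s := by
    simp [Representation.averageMap, GroupAlgebra.average, Representation.character, map_sum, Finset.mul_sum]
  rw [h1, show ∑ s : Multiplicative F, σ.character s = 0 from
    (Fintype.sum_equiv Multiplicative.toAdd (fun s => σ.character s) (fun s => ρ.character (D.u s)) fun _ => rfl).trans hc,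
    mul_zero, eq_comm, Nat.cast_eq_zero, Submodule.finrank_eq_zero] at h0
  have hP : (∑ s : F, ρ (D.u s)) = 0 := by
    refine LinearMap.ext fun v => ?_
    have hmem : (∑ s : F, ρ (D.u s)) v ∈ σ.invariants := by
      intro t
      change ρ (D.u t.toAdd) ((∑ s : F, ρ (D.u s)) v) = _
      rw [← Module.End.mul_apply, Finset.mul_sum]
      refine LinearMap.congr_fun (Fintype.sum_equiv (Equiv.addLeft t.toAdd) _ _ fun s => ?_) v
      rw [← map_mul, ← D.u_add]
      rfl
    rw [h0, Submodule.mem_bot] at hmem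
    exact hmem
  calc ∑ s : F, ρ.character (g * D.u s) = LinearMap.trace ℂ _ (ρ g * ∑ s : F, ρ (D.u s)) := by
        rw [Finset.mul_sum, map_sum]
        exact Finset.sum_congr rfl fun s _ => by rw [Representation.character, map_mul]
    _ = 0 := by rw [hP, mul_zero, map_zero]

theorem cusp_apply_borel {χ : G → ℂ} (hc : D.Cusp χ) (hχ : IsCharacter G χ) (b : D.B)
    (h : D.M b 0 0 ≠ D.M b 1 1) : χ b = 0 := by
  have h1 := hc.sum_mul_eq_zero D hχ b
  rw [Finset.sum_congr rfl (fun s _ => D.sum_unip_eq χ (Char.IsCharacter.isClassFunction hχ) b h s), Finset.sum_const,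
    Finset.card_univ, nsmul_eq_mul, mul_eq_zero] at h1
  exact h1.resolve_left (Nat.cast_ne_zero.2 Fintype.card_ne_zero)

theorem classInner_indFun_of_isT {θ : D.B →* ℂ} (hθ : D.IsT θ) (χ : G → ℂ) (hχ : IsClassFunction G χ) [Fintype D.T] :
    (Nat.card D.B : ℂ) * classInner χ (indFun D.B θ) =
      ∑ t : D.T, conj (θ t) * ∑ s : F, χ ((t : D.B) * D.u s) := by
  rw [Char.frobenius_reciprocity' D.B θ hχ, Char.card_mul_classInner,
    ← D.tuEquiv.sum_comp fun b => χ b * conj (θ b), Fintype.sum_prod_type]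
  refine Finset.sum_congr rfl fun t _ => ?_
  rw [Finset.mul_sum]
  refine Finset.sum_congr rfl fun s _ => ?_
  rw [hθ.congr D (D.tuEquiv_diag (t, s)).1 (D.tuEquiv_diag (t, s)).2, mul_comm]
  rfl

/-- The diagonal subgroup. -/
def Tsub : Subgroup D.B where
  carrier := {b | D.M b 0 1 = 0}
  mul_mem' {a b} ha hb := by
    simp only [Set.mem_ofPred_eq] at ha hb ⊢
    rw [Subgroup.coe_mul, M_mul_apply, ha, hb]; ring
  one_mem' := by simp [M_one]
  inv_mem' {a} ha := by
    simp only [Set.mem_ofPred_eq] at ha ⊢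
    have h := D.M_mul_apply (a⁻¹ : D.B) a 0 1
    rw [← Subgroup.coe_mul, inv_mul_cancel, Subgroup.coe_one, M_one, ha, Matrix.one_apply_ne (by decide)] at h
    simp only [mul_zero, zero_add] at h
    exact (mul_eq_zero.1 h.symm).resolve_right (D.diag_ne_zero a).2

theorem Tsub_ext {a b : D.Tsub} (h0 : D.M (a : D.B) 0 0 = D.M (b : D.B) 0 0)
    (h1 : D.M (a : D.B) 1 1 = D.M (b : D.B) 1 1) : a = b := by
  refine Subtype.ext (Subtype.ext (D.ext ?_))
  ext i j
  fin_cases i <;> fin_cases j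
  · exact h0
  · exact a.2.trans b.2.symm
  · exact (D.mem_B.1 a.1.2).trans (D.mem_B.1 b.1.2).symm
  · exact h1

/-- Projection onto the diagonal subgroup. -/
noncomputable def prHom : D.B →* D.Tsub where
  toFun b := ⟨D.pr b, (D.M_pr b).1⟩
  map_one' := D.Tsub_ext ((D.M_pr 1).2.1) ((D.M_pr 1).2.2)
  map_mul' a b := D.Tsub_ext
    (by rw [(D.M_pr _).2.1, (D.M_mul_diag a b).1, Subgroup.coe_mul, (D.M_mul_diag _ _).1, (D.M_pr a).2.1, (D.M_pr b).2.1])
    (by rw [(D.M_pr _).2.2, (D.M_mul_diag a b).2, Subgroup.coe_mul, (D.M_mul_diag _ _).2, (D.M_pr a).2.2, (D.M_pr b).2.2])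

theorem exists_constituent {χ : G → ℂ} (hχ : IsCharacter G χ) (hc : ¬ D.Cusp χ) :
    ∃ θ : D.B →* ℂ, D.IsT θ ∧ classInner χ (indFun D.B θ) ≠ 0 := by
  classical
  by_contra hcon
  push Not at hcon
  have hcf := Char.IsCharacter.isClassFunction hχ
  let f : D.Tsub → ℂ := fun t => ∑ s : F, χ ((t : D.B) * D.u s)
  have hcomm : ∀ a b : D.Tsub, a * b = b * a := fun a b => D.Tsub_ext
    ((D.M_mul_diag (a : D.B) (b : D.B)).1.trans ((mul_comm _ _).trans (D.M_mul_diag (b : D.B) (a : D.B)).1.symm))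
    ((D.M_mul_diag (a : D.B) (b : D.B)).2.trans ((mul_comm _ _).trans (D.M_mul_diag (b : D.B) (a : D.B)).2.symm))
  have hf : IsClassFunction D.Tsub f := fun g h => by
    rw [show h * g * h⁻¹ = g by rw [hcomm h g, mul_inv_cancel_right]]
  have hf0 : f = 0 := by
    refine Char.eq_zero_of_forall_classInner_irr hf fun ψ => ?_
    obtain ⟨l, hl⟩ := Char.exists_hom_of_degree_one (Char.IsIrrCharacter.isCharacter ψ.2)
      (Char.apply_one_eq_one_of_comm hcomm ψ)
    let θ : D.B →* ℂ := l.comp D.prHom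
    have hθ : D.IsT θ := fun b h0 h1 => by
      have : D.prHom b = 1 := D.Tsub_ext ((D.M_pr b).2.1.trans (by simp [h0, M_one])) ((D.M_pr b).2.2.trans (by simp [h1, M_one]))
      simp [θ, this]
    have h1 := D.classInner_indFun_of_isT hθ χ hcf
    rw [hcon θ hθ, mul_zero] at h1
    rw [classInner]
    refine mul_eq_zero_of_right _ ?_
    rw [← hl, h1]
    refine Fintype.sum_equiv ⟨fun t => ⟨t.1, t.2⟩, fun t => ⟨t.1, t.2⟩, fun _ => rfl, fun _ => rfl⟩ _ _ fun t => ?_
    have ht : D.prHom (t : D.B) = t := D.Tsub_ext (D.M_pr _).2.1 (D.M_pr _).2.2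
    simp only [θ, MonoidHom.comp_apply, Equiv.coe_fn_mk]
    rw [ht, mul_comm]
  apply hc
  have := congrFun hf0 1
  simpa [f, Cusp] using this

theorem not_cusp_of_constituent {χ : G → ℂ} (hχ : IsCharacter G χ) {θ : D.B →* ℂ} (hθ : D.IsT θ)
    (h : classInner χ (indFun D.B θ) ≠ 0) : ¬ D.Cusp χ := by
  classical
  intro hc
  have h1 := D.classInner_indFun_of_isT hθ χ (Char.IsCharacter.isClassFunction hχ)
  rw [Finset.sum_eq_zero (fun t _ => by rw [hc.sum_mul_eq_zero D hχ, mul_zero]), mul_eq_zero] at h1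
  exact h (h1.resolve_left (Nat.cast_ne_zero.2 Nat.card_pos.ne'))

end fin

end Datum

end Cfsg.Agent.GLTwoChar
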