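/-
Principal series characters of `GL_2` and `SL_2`.
Main results (namespace `Cfsg.Agent.GLTwoChar`): `gTheta`, `sTheta`, `tw_gTheta`, `tw_sTheta`, `gTheta_inj`, `sTheta_inj`.
-/
import Cfsg.Agent.Lib.GLTwoChar.Borel

set_option autoImplicit false

namespace Cfsg.Agent.GLTwoChar

open Matrix
open scoped MatrixGroups

variable {F : Type*} [Field F]

/-- `b ↦ α(b₀₀) β(b₁₁)` on the Borel subgroup. -/
noncomputable def Datum.theta {G : Type*} [Group G] (D : Datum F G) (α β : MulChar F ℂ) : D.B →* ℂ where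
  toFun b := α (D.M b 0 0) * β (D.M b 1 1)
  map_one' := by rw [Subgroup.coe_one, D.M_one, Matrix.one_apply_eq, Matrix.one_apply_eq, map_one, map_one, mul_one]
  map_mul' a b := by rw [(D.M_mul_diag a b).1, (D.M_mul_diag a b).2, map_mul, map_mul]; ring

theorem Datum.isT_theta {G : Type*} [Group G] (D : Datum F G) (α β : MulChar F ℂ) : D.IsT (D.theta α β) :=
  fun b h0 h1 => by
    change α (D.M b 0 0) * β (D.M b 1 1) = 1
    rw [h0, h1, map_one, map_one, mul_one]

theorem Datum.tw_theta {G : Type*} [Group G] (D : Datum F G) (α β : MulChar F ℂ) :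
    D.tw (D.isT_theta α β) = D.theta β α := MonoidHom.ext fun b => by
  change α (D.M (D.swap b) 0 0) * β (D.M (D.swap b) 1 1) = β (D.M b 0 0) * α (D.M b 1 1)
  rw [(D.M_swap b).1, (D.M_swap b).2, mul_comm]

/-- A diagonal element of `GL_2`. -/
noncomputable def diagGL (a d : Fˣ) : (glDatum F).B :=
  ⟨GeneralLinearGroup.mkOfDetNeZero !![(a : F), 0; 0, (d : F)] (by simp [Matrix.det_fin_two]),
    (glDatum F).mem_B.2 rfl⟩

theorem M_diagGL (a d : Fˣ) : (glDatum F).M (diagGL a d : GL (Fin 2) F) = !![(a : F), 0; 0, (d : F)] := rfl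

theorem gTheta_inj {α β α' β' : MulChar F ℂ} :
    (glDatum F).theta α β = (glDatum F).theta α' β' ↔ α = α' ∧ β = β' := by
  refine ⟨fun h => ⟨MulChar.ext fun a => ?_, MulChar.ext fun a => ?_⟩, fun h => by rw [h.1, h.2]⟩
  · simpa [Datum.theta, M_diagGL] using DFunLike.congr_fun h (diagGL a 1)
  · simpa [Datum.theta, M_diagGL] using DFunLike.congr_fun h (diagGL 1 a)

/-- A diagonal element of `SL_2`. -/
noncomputable def diagSL (a : Fˣ) : (slDatum F).B :=
  ⟨⟨!![(a : F), 0; 0, (a : F)⁻¹], by simp [Matrix.det_fin_two]⟩, (slDatum F).mem_B.2 rfl⟩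

theorem M_diagSL (a : Fˣ) : (slDatum F).M (diagSL a : SL(2, F)) = !![(a : F), 0; 0, (a : F)⁻¹] := rfl

theorem sTheta_inj {α α' : MulChar F ℂ} :
    (slDatum F).theta α 1 = (slDatum F).theta α' 1 ↔ α = α' := by
  refine ⟨fun h => MulChar.ext fun a => ?_, fun h => by rw [h]⟩
  have hu : IsUnit ((a : F)⁻¹) := isUnit_iff_ne_zero.2 (inv_ne_zero a.ne_zero)
  simpa [Datum.theta, M_diagSL, MulChar.one_apply hu] using DFunLike.congr_fun h (diagSL a)

theorem sl_diag_inv (b : (slDatum F).B) : (slDatum F).M b 1 1 = ((slDatum F).M b 0 0)⁻¹ := by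
  have h : (b : SL(2, F)) 0 0 * (b : SL(2, F)) 1 1 = 1 := by
    have hd := GLOrder.SL2_det (b : SL(2, F))
    have h10 : (b : SL(2, F)) 1 0 = 0 := (slDatum F).mem_B.1 b.2
    rw [h10, mul_zero, sub_zero] at hd
    exact hd
  exact eq_inv_of_mul_eq_one_right h

theorem sTheta_apply (α : MulChar F ℂ) (b : (slDatum F).B) :
    (slDatum F).theta α 1 b = α ((slDatum F).M b 0 0) := by
  change α _ * (1 : MulChar F ℂ) _ = _
  rw [MulChar.one_apply (isUnit_iff_ne_zero.2 ((slDatum F).diag_ne_zero b).2), mul_one]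

theorem tw_sTheta (α : MulChar F ℂ) :
    (slDatum F).tw ((slDatum F).isT_theta α 1) = (slDatum F).theta α⁻¹ 1 := MonoidHom.ext fun b => by
  rw [Datum.tw_theta, sTheta_apply, MulChar.inv_apply', ← sl_diag_inv]
  change (1 : MulChar F ℂ) _ * α _ = _
  rw [MulChar.one_apply (isUnit_iff_ne_zero.2 ((slDatum F).diag_ne_zero b).1), one_mul]

theorem sTheta_eq_tw_iff (α : MulChar F ℂ) :
    (slDatum F).theta α 1 = (slDatum F).tw ((slDatum F).isT_theta α 1) ↔ α ^ 2 = 1 := by
  rw [tw_sTheta, sTheta_inj, sq, eq_inv_iff_mul_eq_one]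

end Cfsg.Agent.GLTwoChar
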