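/-
The irreducible characters of `GL_2` over a finite field.
Main results (namespace `Cfsg.Agent.GLTwoChar`):
* `lam`, `st`, `ps`; `gl_cases`; `gl_cusp` (degree `q - 1`, value `-1` at a transvection); `gl_counts`.
-/
import Cfsg.Agent.Lib.GLTwoChar.Series
import Cfsg.Agent.Lib.Char.Integral

set_option autoImplicit false
set_option linter.unusedSectionVars false

namespace Cfsg.Agent.GLTwoChar

open Matrix Cfsg
open scoped MatrixGroups

/-- Splitting of a character of norm two. -/
theorem split_norm_two {G : Type*} [Group G] [Fintype G] {φ χ : G → ℂ} (hφ : IsCharacter G φ)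
    (h2 : classInner φ φ = 2) (hχ : IsIrrCharacter G χ) (h : classInner χ φ ≠ 0) :
    IsIrrCharacter G (φ - χ) ∧ φ - χ ≠ χ := by
  obtain ⟨m, hm⟩ := Char.IsCharacter.classInner_nat hφ (Char.IsIrrCharacter.isCharacter hχ)
  obtain ⟨m', hm'⟩ := Char.IsCharacter.classInner_nat (Char.IsIrrCharacter.isCharacter hχ) hφ
  have hmm : m' = m := by
    have := Char.classInner_conj_symm φ χ
    rw [hm, hm', map_natCast] at this
    exact_mod_cast this.symm
  subst hmm
  have hm0 : m' ≠ 0 := fun h0 => h (by rw [hm', h0, Nat.cast_zero])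
  have hnorm : classInner (φ - χ) (φ - χ) = 3 - 2 * (m' : ℂ) := by
    rw [Char.classInner_sub_left, Char.classInner_sub_right, Char.classInner_sub_right, h2, hm, hm',
      Char.classInner_irr_self hχ]
    ring
  have hm1 : m' = 1 := by
    have hre := Char.classInner_self_re_nonneg (φ - χ)
    rw [hnorm] at hre
    simp at hre
    have : (2 * m' : ℝ) ≤ 3 := by linarith
    have : 2 * m' ≤ 3 := by exact_mod_cast this
    omega
  subst hm1
  have hcf : IsClassFunction G (φ - χ) :=
    Char.isClassFunction_sub (Char.IsCharacter.isClassFunction hφ) (Char.IsIrrCharacter.isClassFunction hχ)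
  have hchar : IsCharacter G (φ - χ) := by
    refine Char.isCharacter_of_classFunction hcf fun η => ?_
    obtain ⟨k, hk⟩ := Char.IsCharacter.classInner_nat hφ (Char.IsIrrCharacter.isCharacter η.2)
    rw [Char.classInner_sub_left, hk]
    by_cases he : χ = (η : G → ℂ)
    · rw [← he, Char.classInner_irr_self hχ]
      rw [← he, hm] at hk
      exact ⟨0, by rw [← hk]; simp⟩
    · exact ⟨k, by rw [Char.classInner_irr_of_ne hχ η.2 he, sub_zero]⟩
  refine ⟨(Char.isIrrCharacter_iff_norm_one hchar).2 (by rw [hnorm]; norm_num), fun he => ?_⟩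
  have h1 := congrArg (fun f => classInner φ f) he
  simp only [Char.classInner_sub_right, h2, hm] at h1
  have h3 : classInner (φ - χ) χ = 1 := by rw [he, Char.classInner_irr_self hχ]
  rw [Char.classInner_sub_left, hm, Char.classInner_irr_self hχ] at h3
  norm_num at h3

/-- An irreducible constituent of an irreducible character is equal to it. -/
theorem eq_of_classInner_ne_zero {G : Type*} [Group G] [Fintype G] {φ χ : G → ℂ} (hφ : IsIrrCharacter G φ)
    (hχ : IsIrrCharacter G χ) (h : classInner χ φ ≠ 0) : χ = φ :=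
  by_contra fun hne => h (Char.classInner_irr_of_ne hχ hφ hne)

variable {F : Type*} [Field F]

/-- `α ∘ det`. -/
noncomputable def lam (α : MulChar F ℂ) : GL (Fin 2) F →* ℂ where
  toFun g := α (g : Matrix (Fin 2) (Fin 2) F).det
  map_one' := by simp
  map_mul' g h := by simp

theorem lam_apply (α : MulChar F ℂ) (g : GL (Fin 2) F) : lam α g = α (g : Matrix (Fin 2) (Fin 2) F).det := rfl

theorem lam_borel (α : MulChar F ℂ) (b : (glDatum F).B) : lam α b = (glDatum F).theta α α b := by
  change α _ = α _ * α _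
  rw [← map_mul]
  congr 1
  rw [Matrix.det_fin_two]
  have h10 : ((b : GL (Fin 2) F) : Matrix (Fin 2) (Fin 2) F) 1 0 = 0 := (glDatum F).mem_B.1 b.2
  rw [h10, mul_zero, sub_zero]
  rfl

theorem lam_inj {α α' : MulChar F ℂ} (h : (lam α : GL (Fin 2) F → ℂ) = lam α') : α = α' :=
  MulChar.ext fun a => by
    have h' := congrFun h (diagGL a 1 : (glDatum F).B)
    simpa [lam_apply, diagGL, GLOrder.coe_mkOfDetNeZero] using h'

variable [Fintype F] [DecidableEq F]

/-- The Steinberg character twisted by `α`. -/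
noncomputable def st (α : MulChar F ℂ) : GL (Fin 2) F → ℂ :=
  indFun (glDatum F).B ⇑((glDatum F).theta α α) - ⇑(lam α)

/-- The principal series character. -/
noncomputable def ps (α β : MulChar F ℂ) : GL (Fin 2) F → ℂ := indFun (glDatum F).B ⇑((glDatum F).theta α β)

theorem lam_one_apply (α : MulChar F ℂ) : lam α (1 : GL (Fin 2) F) = 1 := map_one _

theorem st_one (α : MulChar F ℂ) : st α 1 = (Fintype.card F : ℂ) := by
  classical
  simp [st, (glDatum F).indFun_one]

theorem ps_one (α β : MulChar F ℂ) : ps α β 1 = (Fintype.card F : ℂ) + 1 := by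
  classical
  exact (glDatum F).indFun_one _

theorem classInner_lam_ind (α β γ : MulChar F ℂ) :
    classInner (lam α : GL (Fin 2) F → ℂ) (ps β γ) = if α = β ∧ α = γ then 1 else 0 := by
  classical
  haveI := Fintype.ofFinite (glDatum F).B
  rw [ps, Char.frobenius_reciprocity' _ _ (Char.IsIrrCharacter.isClassFunction (Char.isIrrCharacter_of_hom (lam α))),
    show (fun b : (glDatum F).B => lam α b) = ⇑((glDatum F).theta α α) from funext (lam_borel α),
    Char.classInner_irr (Char.isIrrCharacter_of_hom _) (Char.isIrrCharacter_of_hom _)]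
  refine if_congr ?_ rfl rfl
  rw [DFunLike.coe_fn_eq, gTheta_inj]

theorem classInner_ps (α β γ δ : MulChar F ℂ) :
    classInner (ps α β) (ps γ δ) = (if α = γ ∧ β = δ then 1 else 0) + (if α = δ ∧ β = γ then 1 else 0) := by
  classical
  haveI := Fintype.ofFinite (glDatum F).B
  rw [ps, ps, (glDatum F).classInner_indFun ((glDatum F).isT_theta α β) ((glDatum F).isT_theta γ δ),
    (glDatum F).tw_theta]
  congr 1 <;> exact if_congr gTheta_inj rfl rfl

theorem st_irr (α : MulChar F ℂ) : IsIrrCharacter (GL (Fin 2) F) (st α) := by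
  classical
  haveI := Fintype.ofFinite (glDatum F).B
  refine (split_norm_two ((glDatum F).isCharacter_indFun _) ?_ (Char.isIrrCharacter_of_hom (lam α)) ?_).1
  · have := classInner_ps α α α α
    rw [ps] at this
    rw [this]; simp [one_add_one_eq_two]
  · have := classInner_lam_ind α α α
    rw [ps] at this
    rw [this]; simp

theorem ps_irr {α β : MulChar F ℂ} (h : α ≠ β) : IsIrrCharacter (GL (Fin 2) F) (ps α β) := by
  classical
  haveI := Fintype.ofFinite (glDatum F).B
  refine ((glDatum F).isIrr_indFun_iff ((glDatum F).isT_theta α β)).2 fun h' => ?_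
  rw [(glDatum F).tw_theta, gTheta_inj] at h'
  exact h h'.1

theorem st_inj {α α' : MulChar F ℂ} (h : st α = st α') : α = α' := by
  classical
  by_contra hne
  have h1 : ps α α = ⇑(lam α) + st α := (add_sub_cancel _ _).symm
  have h1' : ps α' α' = ⇑(lam α') + st α' := (add_sub_cancel _ _).symm
  have h2 : classInner (st α) (ps α' α') = 0 := by
    have h3 : classInner (ps α α) (ps α' α') = 0 := by rw [classInner_ps]; simp [hne]
    have h4 : classInner (lam α : GL (Fin 2) F → ℂ) (ps α' α') = 0 := by rw [classInner_lam_ind]; simp [hne]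
    rw [h1, Char.classInner_add_left, h4, zero_add] at h3
    exact h3
  have h5 : classInner (st α) (⇑(lam α') : GL (Fin 2) F → ℂ) = 0 := by
    refine Char.classInner_irr_of_ne (st_irr α) (Char.isIrrCharacter_of_hom _) fun he => ?_
    have := congrFun he 1
    rw [st_one, map_one] at this
    exact Fintype.one_lt_card.ne' (by exact_mod_cast this : Fintype.card F = 1)
  rw [h1', Char.classInner_add_right, h5, zero_add, ← h, Char.classInner_irr_self (st_irr α)] at h2
  exact one_ne_zero h2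

/-- Classification. -/
theorem gl_cases {χ : GL (Fin 2) F → ℂ} (hχ : IsIrrCharacter (GL (Fin 2) F) χ) :
    (∃ α, χ = lam α) ∨ (∃ α, χ = st α) ∨ (∃ α β, α ≠ β ∧ χ = ps α β) ∨ (glDatum F).Cusp χ := by
  classical
  haveI := Fintype.ofFinite (glDatum F).B
  by_cases hc : (glDatum F).Cusp χ
  · exact Or.inr (Or.inr (Or.inr hc))
  obtain ⟨θ, hθ, hne⟩ := (glDatum F).exists_constituent (Char.IsIrrCharacter.isCharacter hχ) hc
  let f : Fˣ → Fˣ → ℂ := fun a d => θ (diagGL a d)
  let h1 : Fˣ →* ℂ :=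
    { toFun := fun a => θ (diagGL a 1)
      map_one' := hθ _ rfl rfl
      map_mul' := fun a b => by
        rw [← map_mul]
        refine hθ.congr _ ?_ ?_
        · rw [((glDatum F).M_mul_diag _ _).1]; simp [M_diagGL]
        · rw [((glDatum F).M_mul_diag _ _).2]; simp [M_diagGL] }
  let h2 : Fˣ →* ℂ :=
    { toFun := fun a => θ (diagGL 1 a)
      map_one' := hθ _ rfl rfl
      map_mul' := fun a b => by
        rw [← map_mul]
        refine hθ.congr _ ?_ ?_
        · rw [((glDatum F).M_mul_diag _ _).1]; simp [M_diagGL]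
        · rw [((glDatum F).M_mul_diag _ _).2]; simp [M_diagGL] }
  obtain ⟨α, hα⟩ : ∃ α : MulChar F ℂ, ∀ a : Fˣ, α a = h1 a :=
    ⟨MulChar.ofUnitHom h1.toHomUnits, fun a => by rw [MulChar.ofUnitHom_coe]; rfl⟩
  obtain ⟨β, hβ⟩ : ∃ β : MulChar F ℂ, ∀ a : Fˣ, β a = h2 a :=
    ⟨MulChar.ofUnitHom h2.toHomUnits, fun a => by rw [MulChar.ofUnitHom_coe]; rfl⟩
  have hθeq : θ = (glDatum F).theta α β := by
    refine MonoidHom.ext fun b => ?_
    obtain ⟨ha, hd⟩ := (glDatum F).diag_ne_zero b
    have e : θ b = θ (diagGL (Units.mk0 _ ha) 1 * diagGL 1 (Units.mk0 _ hd)) := by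
      refine hθ.congr _ ?_ ?_
      · rw [((glDatum F).M_mul_diag _ _).1]; simp [M_diagGL]
      · rw [((glDatum F).M_mul_diag _ _).2]; simp [M_diagGL]
    rw [e, map_mul]
    exact congrArg₂ (· * ·) (hα (Units.mk0 _ ha)).symm (hβ (Units.mk0 _ hd)).symm
  subst hθeq
  by_cases hab : α = β
  · subst hab
    by_cases hl : χ = lam α
    · exact Or.inl ⟨α, hl⟩
    refine Or.inr (Or.inl ⟨α, eq_of_classInner_ne_zero (st_irr α) hχ ?_⟩)
    rw [st, Char.classInner_sub_right, Char.classInner_irr_of_ne hχ (Char.isIrrCharacter_of_hom _) hl, sub_zero]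
    exact hne
  · exact Or.inr (Or.inr (Or.inl ⟨α, β, hab, eq_of_classInner_ne_zero (ps_irr hab) hχ hne⟩))

theorem not_cusp_lam (α : MulChar F ℂ) : ¬ (glDatum F).Cusp (lam α : GL (Fin 2) F → ℂ) := by
  classical
  haveI := Fintype.ofFinite (glDatum F).B
  refine (glDatum F).not_cusp_of_constituent (Char.isCharacter_of_hom _) ((glDatum F).isT_theta α α) ?_
  have := classInner_lam_ind α α α
  rw [ps] at this
  rw [this]; simp

theorem not_cusp_st (α : MulChar F ℂ) : ¬ (glDatum F).Cusp (st α) := by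
  classical
  haveI := Fintype.ofFinite (glDatum F).B
  refine (glDatum F).not_cusp_of_constituent (Char.IsIrrCharacter.isCharacter (st_irr α)) ((glDatum F).isT_theta α α) ?_
  have h1 : ps α α = ⇑(lam α) + st α := (add_sub_cancel _ _).symm
  rw [show indFun (glDatum F).B ⇑((glDatum F).theta α α) = ps α α from rfl, h1, Char.classInner_add_right,
    Char.classInner_irr_self (st_irr α)]
  obtain ⟨m, hm⟩ := Char.IsCharacter.classInner_nat (Char.IsIrrCharacter.isCharacter (st_irr α)) (Char.isCharacter_of_hom (lam α))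
  rw [hm]
  exact_mod_cast Nat.succ_ne_zero m

theorem not_cusp_ps {α β : MulChar F ℂ} (h : α ≠ β) : ¬ (glDatum F).Cusp (ps α β) := by
  classical
  haveI := Fintype.ofFinite (glDatum F).B
  refine (glDatum F).not_cusp_of_constituent (Char.IsIrrCharacter.isCharacter (ps_irr h)) ((glDatum F).isT_theta α β) ?_
  have := Char.classInner_irr_self (ps_irr h)
  rw [ps] at this ⊢
  rw [this]
  exact one_ne_zero

theorem card_conjClasses_gl : Nat.card (ConjClasses (GL (Fin 2) F)) = Fintype.card F ^ 2 - 1 := by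
  classical
  let sc : Fˣ → GL (Fin 2) F := fun a => GeneralLinearGroup.mkOfDetNeZero ((a : F) • 1) (by simp)
  let cp : F × Fˣ → GL (Fin 2) F := fun p => GeneralLinearGroup.mkOfDetNeZero (comp p.1 (p.2 : F)) (by rw [comp_det]; exact p.2.ne_zero)
  have tr_det : ∀ g h : GL (Fin 2) F, IsConj g h → g 0 0 + g 1 1 = h 0 0 + h 1 1 ∧
      (g : Matrix (Fin 2) (Fin 2) F).det = (h : Matrix (Fin 2) (Fin 2) F).det := by
    intro g h hgh
    obtain ⟨c, rfl⟩ := isConj_iff.1 hgh
    constructor
    · simp only [← Matrix.trace_fin_two, Units.val_mul]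
      rw [Matrix.trace_units_conj]
    · simp only [Units.val_mul, Matrix.det_units_conj]
  have scalar_conj : ∀ (a : Fˣ) (h : GL (Fin 2) F), IsConj (sc a) h → h = sc a := by
    intro a h hh
    obtain ⟨c, rfl⟩ := isConj_iff.1 hh
    rw [mul_inv_eq_iff_eq_mul]
    refine Units.ext ?_
    simp [sc, GLOrder.coe_mkOfDetNeZero]
  let Φ : Fˣ ⊕ F × Fˣ → ConjClasses (GL (Fin 2) F) := Sum.elim (fun a => ConjClasses.mk (sc a)) (fun p => ConjClasses.mk (cp p))
  have hbij : Function.Bijective Φ := by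
    constructor
    · rintro (a | p) (a' | p') h <;> have h' := ConjClasses.mk_eq_mk_iff_isConj.1 h
      · have := congrArg (fun g : GL (Fin 2) F => g 0 0) (scalar_conj a _ h')
        simp [sc, GLOrder.coe_mkOfDetNeZero] at this
        exact congrArg Sum.inl (Units.ext this.symm)
      · have := congrArg (fun g : GL (Fin 2) F => g 1 0) (scalar_conj a _ h')
        simp [sc, cp, GLOrder.coe_mkOfDetNeZero, comp] at this
      · have := congrArg (fun g : GL (Fin 2) F => g 1 0) (scalar_conj a' _ h'.symm)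
        simp [sc, cp, GLOrder.coe_mkOfDetNeZero, comp] at this
      · obtain ⟨ht, hd⟩ := tr_det _ _ h'
        simp only [cp, GLOrder.coe_mkOfDetNeZero, comp_det, comp_apply_tr] at ht hd
        exact congrArg Sum.inr (Prod.ext ht (Units.ext hd))
    · intro C
      obtain ⟨g, rfl⟩ := ConjClasses.mk_surjective C
      by_cases hg : IsScalar (g : Matrix (Fin 2) (Fin 2) F)
      · obtain ⟨a, ha⟩ := isScalar_iff.1 hg
        have ha0 : a ≠ 0 := by
          intro h0
          have := GeneralLinearGroup.det_ne_zero g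
          rw [ha, h0, zero_smul] at this
          simp at this
        exact ⟨Sum.inl (Units.mk0 a ha0), congrArg ConjClasses.mk (Units.ext ha.symm)⟩
      · refine ⟨Sum.inr (g 0 0 + g 1 1, Units.mk0 _ (GeneralLinearGroup.det_ne_zero g)),
          ConjClasses.mk_eq_mk_iff_isConj.2 (isConj_of_tr_det (not_isScalar_comp _ _) hg ?_ ?_)⟩
        · exact comp_apply_tr _ _
        · exact comp_det _ _
  rw [← Nat.card_congr (Equiv.ofBijective Φ hbij), Nat.card_sum, Nat.card_prod, GLOrder.card_units, Nat.card_eq_fintype_card]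
  obtain ⟨k, hk⟩ := Nat.exists_eq_add_of_le (Fintype.card_pos (α := F))
  rw [hk, Nat.add_sub_cancel_left, show (1 + k) ^ 2 = 1 + (k + (1 + k) * k) by ring, Nat.add_sub_cancel_left]

/-- The non-cuspidal index. -/
abbrev PSIndex (F : Type*) [Field F] : Type _ :=
  (MulChar F ℂ ⊕ MulChar F ℂ) ⊕ {z : Sym2 (MulChar F ℂ) // ¬ z.IsDiag}

theorem card_mulChar : Nat.card (MulChar F ℂ) = Fintype.card F - 1 := by
  rw [MulChar.card_eq_card_units_of_hasEnoughRootsOfUnity, GLOrder.card_units, Nat.card_eq_fintype_card]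

/-- The principal series of an unordered pair. -/
noncomputable def psSym (z : Sym2 (MulChar F ℂ)) : GL (Fin 2) F → ℂ :=
  Sym2.lift ⟨ps, fun α β => by
    classical
    haveI := Fintype.ofFinite (glDatum F).B
    have h := (glDatum F).indFun_tw ((glDatum F).isT_theta β α)
    rw [(glDatum F).tw_theta] at h
    exact h⟩ z

theorem psSym_irr {z : Sym2 (MulChar F ℂ)} (h : ¬ z.IsDiag) : IsIrrCharacter (GL (Fin 2) F) (psSym z) := by
  induction z using Sym2.ind with
  | _ a b => exact ps_irr h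

theorem psSym_one (z : Sym2 (MulChar F ℂ)) : psSym z 1 = (Fintype.card F : ℂ) + 1 := by
  induction z using Sym2.ind with
  | _ a b => exact ps_one a b

/-- All irreducible characters. -/
noncomputable def allChars : PSIndex F ⊕ {χ : IrrCharacter (GL (Fin 2) F) // (glDatum F).Cusp (χ : GL (Fin 2) F → ℂ)} →
    IrrCharacter (GL (Fin 2) F) :=
  Sum.elim (Sum.elim (Sum.elim (fun α => ⟨lam α, Char.isIrrCharacter_of_hom _⟩) (fun α => ⟨st α, st_irr α⟩))
    (fun z => ⟨psSym z.1, psSym_irr z.2⟩)) Subtype.val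

theorem allChars_bijective : Function.Bijective (allChars (F := F)) := by
  classical
  haveI := Fintype.ofFinite (glDatum F).B
  have hq := Fintype.one_lt_card (α := F)
  have dls : ∀ α α' : MulChar F ℂ, (lam α : GL (Fin 2) F → ℂ) ≠ st α' := fun α α' h => by
    have := congrFun h 1
    rw [st_one, map_one] at this
    exact hq.ne (by exact_mod_cast this)
  have dlp : ∀ (α : MulChar F ℂ) z, (lam α : GL (Fin 2) F → ℂ) ≠ psSym z := fun α z h => by
    have := congrFun h 1
    rw [psSym_one, map_one] at this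
    have : (1 : ℕ) = Fintype.card F + 1 := by exact_mod_cast this
    omega
  have dsp : ∀ (α : MulChar F ℂ) z, st α ≠ psSym z := fun α z h => by
    have := congrFun h 1
    rw [psSym_one, st_one] at this
    simp at this
  have dpc : ∀ (z : {z : Sym2 (MulChar F ℂ) // ¬ z.IsDiag}), ¬ (glDatum F).Cusp (psSym z.1) := by
    rintro ⟨z, hz⟩
    induction z using Sym2.ind with
    | _ a b => exact not_cusp_ps hz
  constructor
  · rintro (((a | a) | z) | c) (((a' | a') | z') | c') h <;>
      have h' := congrArg (fun x : IrrCharacter (GL (Fin 2) F) => (x : GL (Fin 2) F → ℂ)) h <;>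
      simp only [allChars, Sum.elim_inl, Sum.elim_inr] at h'
    · rw [lam_inj h']
    · exact absurd h' (dls a a')
    · exact absurd h' (dlp a _)
    · exact absurd (show (glDatum F).Cusp (lam a : GL (Fin 2) F → ℂ) from h'.symm ▸ c'.2) (not_cusp_lam a)
    · exact absurd h'.symm (dls a' a)
    · rw [st_inj h']
    · exact absurd h' (dsp a _)
    · exact absurd (show (glDatum F).Cusp (st a) from h'.symm ▸ c'.2) (not_cusp_st a)
    · exact absurd h'.symm (dlp a' _)
    · exact absurd h'.symm (dsp a' _)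
    · obtain ⟨z, hz⟩ := z
      obtain ⟨z', hz'⟩ := z'
      induction z using Sym2.ind with
      | _ a b =>
      induction z' using Sym2.ind with
      | _ a' b' =>
      change ps a b = ps a' b' at h'
      rw [ps, ps, (glDatum F).indFun_eq_iff ((glDatum F).isT_theta a b) ((glDatum F).isT_theta a' b'),
        (glDatum F).tw_theta, gTheta_inj, gTheta_inj] at h'
      congr 3
      exact Sym2.eq_iff.2 h'
    · exact absurd (show (glDatum F).Cusp (psSym z.1) from h'.symm ▸ c'.2) (dpc z)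
    · exact absurd (show (glDatum F).Cusp (lam a' : GL (Fin 2) F → ℂ) from h' ▸ c.2) (not_cusp_lam a')
    · exact absurd (show (glDatum F).Cusp (st a') from h' ▸ c.2) (not_cusp_st a')
    · exact absurd (show (glDatum F).Cusp (psSym z'.1) from h' ▸ c.2) (dpc z')
    · rw [Subtype.ext (Subtype.ext h')]
  · rintro ⟨χ, hχ⟩
    rcases gl_cases hχ with ⟨α, rfl⟩ | ⟨α, rfl⟩ | ⟨α, β, h, rfl⟩ | hc
    · exact ⟨Sum.inl (Sum.inl (Sum.inl α)), rfl⟩
    · exact ⟨Sum.inl (Sum.inl (Sum.inr α)), rfl⟩
    · exact ⟨Sum.inl (Sum.inr ⟨s(α, β), h⟩), rfl⟩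
    · exact ⟨Sum.inr ⟨⟨χ, hχ⟩, hc⟩, rfl⟩

theorem card_pairs : Nat.card {z : Sym2 (MulChar F ℂ) // ¬ z.IsDiag} = (Fintype.card F - 1) * (Fintype.card F - 2) / 2 := by
  classical
  haveI : Finite (MulChar F ℂ) := Nat.finite_of_card_ne_zero (by rw [card_mulChar]; have := Fintype.one_lt_card (α := F); omega)
  haveI := Fintype.ofFinite (MulChar F ℂ)
  rw [Nat.card_eq_fintype_card, Sym2.card_subtype_not_diag, Nat.choose_two_right, ← Nat.card_eq_fintype_card, card_mulChar]
  rfl

theorem card_cusp :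
    Nat.card {χ : IrrCharacter (GL (Fin 2) F) // (glDatum F).Cusp (χ : GL (Fin 2) F → ℂ)} =
      Fintype.card F * (Fintype.card F - 1) / 2 := by
  classical
  haveI : Finite (MulChar F ℂ) := Nat.finite_of_card_ne_zero (by rw [card_mulChar]; have := Fintype.one_lt_card (α := F); omega)
  have h := Nat.card_congr (Equiv.ofBijective _ (allChars_bijective (F := F)))
  rw [Nat.card_sum, Nat.card_sum, Nat.card_sum, card_mulChar, card_pairs, Char.card_irr_eq_card_conjClasses,
    card_conjClasses_gl] at h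
  generalize Nat.card {χ : IrrCharacter (GL (Fin 2) F) // (glDatum F).Cusp (χ : GL (Fin 2) F → ℂ)} = c at h ⊢
  obtain ⟨m, hm⟩ : ∃ m, Fintype.card F = 2 + m := Nat.exists_eq_add_of_le (Fintype.one_lt_card : 1 < Fintype.card F)
  rw [hm] at h ⊢
  rw [show 2 + m - 1 = m + 1 by omega, show 2 + m - 2 = m by omega] at h
  rw [show 2 + m - 1 = m + 1 by omega]
  obtain ⟨e, he⟩ := Nat.even_mul_succ_self m
  rw [show (m + 1) * m = 2 * e by rw [mul_comm, he]; ring, Nat.mul_div_cancel_left _ two_pos] at h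
  have hsq : (2 + m) ^ 2 - 1 = 2 * e + 3 * m + 3 := by
    rw [show (2 + m) ^ 2 = m * (m + 1) + 3 * m + 3 + 1 by ring, he, Nat.add_sub_cancel]; omega
  have hp : (2 + m) * (m + 1) = 2 * (e + m + 1) := by
    rw [show (2 + m) * (m + 1) = m * (m + 1) + 2 * m + 2 by ring, he]; ring
  rw [hp, Nat.mul_div_cancel_left _ two_pos]
  omega

theorem cusp_u_const {χ : GL (Fin 2) F → ℂ} (hχ : IsClassFunction (GL (Fin 2) F) χ) {s : F} (hs : s ≠ 0) :
    χ ((glDatum F).u s) = χ ((glDatum F).u 1) := by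
  obtain ⟨c, hc⟩ := isConj_iff.1 (isConj_of_tr_det (g := (glDatum F).u 1) (h := (glDatum F).u s)
    (fun h => one_ne_zero (α := F) (by
      have := h.1
      rwa [show ((glDatum F).u 1 : GL (Fin 2) F) = (glDatum F).u 1 from rfl,
        show (((glDatum F).u 1 : GL (Fin 2) F) : Matrix (Fin 2) (Fin 2) F) = !![1, 1; 0, 1] from (glDatum F).M_u 1] at this))
    (fun h => hs (by
      have := h.1
      rwa [show (((glDatum F).u s : GL (Fin 2) F) : Matrix (Fin 2) (Fin 2) F) = !![1, s; 0, 1] from (glDatum F).M_u s] at this))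
    (by
      change (glDatum F).M ((glDatum F).u 1) 0 0 + (glDatum F).M ((glDatum F).u 1) 1 1 = (glDatum F).M ((glDatum F).u s) 0 0 + (glDatum F).M ((glDatum F).u s) 1 1
      rw [(glDatum F).M_u, (glDatum F).M_u]
      simp)
    (by
      change ((glDatum F).M ((glDatum F).u 1)).det = ((glDatum F).M ((glDatum F).u s)).det
      rw [(glDatum F).M_u, (glDatum F).M_u]
      simp [Matrix.det_fin_two]))
  rw [← hc, hχ]

theorem cusp_degree_multiple (χ : IrrCharacter (GL (Fin 2) F)) (hc : (glDatum F).Cusp (χ : GL (Fin 2) F → ℂ)) :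
    ∃ k : ℕ, 1 ≤ k ∧ (χ : GL (Fin 2) F → ℂ) 1 = ((Fintype.card F - 1) * k : ℕ) ∧
      (χ : GL (Fin 2) F → ℂ) ((glDatum F).u 1) = -(k : ℂ) := by
  classical
  have hchar := Char.IsIrrCharacter.isCharacter χ.2
  have hcf := Char.IsIrrCharacter.isClassFunction χ.2
  obtain ⟨d, hd⟩ := Char.IsCharacter.exists_degree hchar
  have hq : ((Fintype.card F - 1 : ℕ) : ℂ) ≠ 0 := by
    have := Fintype.one_lt_card (α := F)
    exact_mod_cast (by omega : Fintype.card F - 1 ≠ 0)
  have hsum : (d : ℂ) + ((Fintype.card F - 1 : ℕ) : ℂ) * (χ : GL (Fin 2) F → ℂ) ((glDatum F).u 1) = 0 := by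
    rw [← hc, ← Finset.add_sum_erase _ _ (Finset.mem_univ (0 : F)),
      Finset.sum_congr rfl (fun s hs => cusp_u_const hcf (Finset.ne_of_mem_erase hs)), Finset.sum_const,
      Finset.card_erase_of_mem (Finset.mem_univ _), Finset.card_univ, nsmul_eq_mul, (glDatum F).u_zero, hd]
  have hu : (χ : GL (Fin 2) F → ℂ) ((glDatum F).u 1) = -((d : ℂ) / ((Fintype.card F - 1 : ℕ) : ℂ)) := by
    field_simp
    linear_combination hsum
  obtain ⟨k, hk⟩ := Char.nat_dvd_of_isIntegral_div (Nat.cast_ne_zero.1 hq) (by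
    have := (Char.IsCharacter.isIntegral hchar ((glDatum F).u 1)).neg
    rwa [hu, neg_neg] at this)
  refine ⟨k, ?_, by rw [hd, hk], ?_⟩
  · rcases Nat.eq_zero_or_pos k with rfl | h
    · exact absurd (by rw [hd, hk, mul_zero, Nat.cast_zero]) (Char.IsIrrCharacter.apply_one_ne_zero χ.2)
    · exact h
  · rw [hu, hk, Nat.cast_mul, mul_div_cancel_left₀ _ hq]

/-- Cuspidal characters: degree `q - 1`, value `-1` at a transvection. -/
theorem gl_cusp {χ : GL (Fin 2) F → ℂ} (hχ : IsIrrCharacter (GL (Fin 2) F) χ) (hc : (glDatum F).Cusp χ) :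
    χ 1 = (Fintype.card F : ℂ) - 1 ∧ χ ((glDatum F).u 1) = -1 := by
  classical
  haveI : Finite (MulChar F ℂ) := Nat.finite_of_card_ne_zero (by rw [card_mulChar]; have := Fintype.one_lt_card (α := F); omega)
  haveI := Fintype.ofFinite (IrrCharacter (GL (Fin 2) F))
  haveI := Fintype.ofFinite (MulChar F ℂ)
  haveI : Fintype {z : Sym2 (MulChar F ℂ) // ¬ z.IsDiag} := Fintype.ofFinite _
  haveI : Fintype {χ : IrrCharacter (GL (Fin 2) F) // (glDatum F).Cusp (χ : GL (Fin 2) F → ℂ)} := Fintype.ofFinite _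
  choose k hk1 hk2 hk3 using fun χ : {χ : IrrCharacter (GL (Fin 2) F) // (glDatum F).Cusp (χ : GL (Fin 2) F → ℂ)} =>
    cusp_degree_multiple χ.1 χ.2
  have hsum := Char.sum_sq_degrees (G := GL (Fin 2) F)
  rw [← (Equiv.ofBijective _ (allChars_bijective (F := F))).sum_comp, Fintype.sum_sum_type, Fintype.sum_sum_type,
    Fintype.sum_sum_type] at hsum
  simp only [Equiv.ofBijective_apply, allChars, Sum.elim_inl, Sum.elim_inr, map_one, st_one, psSym_one, hk2, one_pow,
    Finset.sum_const, Finset.card_univ, nsmul_eq_mul, mul_one, GLOrder.card_GL_two] at hsum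
  rw [← Nat.card_eq_fintype_card (α := MulChar F ℂ), card_mulChar,
    ← Nat.card_eq_fintype_card (α := {z : Sym2 (MulChar F ℂ) // ¬ z.IsDiag}), card_pairs,
    Nat.card_eq_fintype_card (α := F)] at hsum
  have hN : ((Fintype.card F - 1) * (Fintype.card F - 2) / 2 : ℕ) * 2 = (Fintype.card F - 1) * (Fintype.card F - 2) := by
    refine Nat.div_mul_cancel ?_
    rcases Nat.even_or_odd (Fintype.card F) with ⟨e, he⟩ | ⟨e, he⟩
    · exact dvd_mul_of_dvd_right ⟨e - 1, by omega⟩ _
    · exact dvd_mul_of_dvd_left ⟨e, by omega⟩ _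
  have hC : Fintype.card F * (Fintype.card F - 1) / 2 * 2 = Fintype.card F * (Fintype.card F - 1) :=
    Nat.div_mul_cancel (by
      rcases Nat.even_or_odd (Fintype.card F) with ⟨e, he⟩ | ⟨e, he⟩
      · exact dvd_mul_of_dvd_left ⟨e, by omega⟩ _
      · exact dvd_mul_of_dvd_right ⟨e, by omega⟩ _)
  obtain ⟨m, hm⟩ : ∃ m, Fintype.card F = 2 + m := Nat.exists_eq_add_of_le (Fintype.one_lt_card : 1 < Fintype.card F)
  rw [hm] at hsum hN hC
  rw [show (2 + m) - 1 = m + 1 by omega] at hsum hN hC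
  rw [show (2 + m) - 2 = m by omega] at hsum hN
  push_cast at hsum
  rw [Nat.cast_sub (Nat.one_le_pow _ _ (by omega))] at hsum
  have hN' : ((((m + 1) * m / 2 : ℕ)) : ℂ) * 2 = ((m : ℂ) + 1) * m := by exact_mod_cast hN
  have hC' : ((((2 + m) * (m + 1) / 2 : ℕ)) : ℂ) * 2 = (2 + (m : ℂ)) * ((m : ℂ) + 1) := by exact_mod_cast hC
  have hksq : ∑ x, ((k x : ℂ)) ^ 2 = (((2 + m) * (m + 1) / 2 : ℕ) : ℂ) := by
    simp only [mul_pow, ← Finset.mul_sum] at hsum
    push_cast at hsum
    have hm1 : ((m : ℂ) + 1) ^ 2 ≠ 0 := pow_ne_zero 2 (Nat.cast_add_one_ne_zero m)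
    refine mul_left_cancel₀ (mul_ne_zero hm1 (two_ne_zero' ℂ)) ?_
    linear_combination 2 * hsum - (((2 : ℂ) + m + 1) ^ 2) * hN' - ((m : ℂ) + 1) ^ 2 * hC'
  have hcount := card_cusp (F := F)
  rw [hm, show (2 + m) - 1 = m + 1 by omega, Nat.card_eq_fintype_card] at hcount
  rw [← hcount] at hksq
  have hksq' : ∑ x, (k x) ^ 2 = ∑ _x : {χ : IrrCharacter (GL (Fin 2) F) // (glDatum F).Cusp (χ : GL (Fin 2) F → ℂ)}, 1 := by
    rw [Finset.sum_const, Finset.card_univ, smul_eq_mul, mul_one]
    exact_mod_cast hksq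
  have hall := (Finset.sum_eq_sum_iff_of_le (fun x _ => Nat.one_le_pow 2 (k x) (hk1 x))).1 hksq'.symm ⟨⟨χ, hχ⟩, hc⟩ (Finset.mem_univ _)
  have hk : k ⟨⟨χ, hχ⟩, hc⟩ = 1 := (pow_eq_one_iff.1 hall.symm).resolve_right two_ne_zero
  constructor
  · have := hk2 ⟨⟨χ, hχ⟩, hc⟩
    simp only at this
    rw [this, hk, mul_one, Nat.cast_sub (by omega), Nat.cast_one]
  · have := hk3 ⟨⟨χ, hχ⟩, hc⟩
    simp only at this
    rw [this, hk, Nat.cast_one]

/-- The four degrees and their multiplicities. -/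
theorem gl_cases_degree {χ : GL (Fin 2) F → ℂ} (hχ : IsIrrCharacter (GL (Fin 2) F) χ) :
    χ 1 = 1 ∨ χ 1 = (Fintype.card F : ℂ) - 1 ∨ χ 1 = (Fintype.card F : ℂ) ∨ χ 1 = (Fintype.card F : ℂ) + 1 := by
  rcases gl_cases hχ with ⟨α, rfl⟩ | ⟨α, rfl⟩ | ⟨α, β, h, rfl⟩ | hc
  · exact Or.inl (map_one _)
  · exact Or.inr (Or.inr (Or.inl (st_one α)))
  · exact Or.inr (Or.inr (Or.inr (ps_one α β)))
  · exact Or.inr (Or.inl (gl_cusp hχ hc).1)

end Cfsg.Agent.GLTwoChar
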