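/-
Restriction of irreducible characters from `GL_2` to `SL_2`.
Main results (namespace `Cfsg.Agent.GLTwoChar`):
* `res_cases`: the restriction is irreducible or a sum of two distinct irreducibles conjugate under `GL_2`;
* `res_irr_of_char_two`; `exists_over`.
-/
import Cfsg.Agent.Lib.GLTwoChar.GLTable
import Cfsg.Agent.Lib.CharApp.Schur

set_option autoImplicit false
set_option linter.unusedSectionVars false

namespace Cfsg.Agent.GLTwoChar

open Matrix Cfsg
open scoped MatrixGroups ComplexConjugate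

variable {F : Type*} [Field F]

/-- The restriction to `SL_2`. -/
def res (ψ : GL (Fin 2) F → ℂ) : SL(2, F) → ℂ := fun h => ψ (SpecialLinearGroup.toGL h)

theorem res_isCharacter {ψ : GL (Fin 2) F → ℂ} (h : IsCharacter (GL (Fin 2) F) ψ) : IsCharacter SL(2, F) (res ψ) :=
  Char.IsCharacter.comp_hom h SpecialLinearGroup.toGL

/-- Scalar matrices as a homomorphism. -/
def scal (F : Type*) [Field F] : Fˣ →* GL (Fin 2) F := Units.map (Matrix.scalar (Fin 2)).toMonoidHom

theorem coe_scal (z : Fˣ) : (scal F z : Matrix (Fin 2) (Fin 2) F) = (z : F) • 1 := by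
  change Matrix.scalar (Fin 2) (z : F) = _
  rw [Matrix.scalar_apply, ← Matrix.smul_one_eq_diagonal]

theorem scal_central (z : Fˣ) : scal F z ∈ Subgroup.center (GL (Fin 2) F) :=
  Subgroup.mem_center_iff.2 fun g => Units.ext (by simp [coe_scal])

theorem norm_scal_mul {ψ : GL (Fin 2) F → ℂ} [Finite F] (hψ : IsIrrCharacter (GL (Fin 2) F) ψ) (z : Fˣ)
    (g : GL (Fin 2) F) : ‖ψ (scal F z * g)‖ = ‖ψ g‖ := by
  obtain ⟨n, ρ, hi, rfl⟩ := hψ
  haveI := hi
  obtain ⟨c, hc⟩ := CharApp.exists_scalar_of_mem_center ρ (scal_central z)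
  have hne : Nontrivial (Fin n → ℂ) := CharApp.nontrivial_of_irr ρ
  have hnorm : ‖c‖ = 1 := by
    refine Complex.norm_eq_one_of_pow_eq_one (n := orderOf (scal F z)) ?_ (orderOf_pos _).ne'
    have h1 : (ρ (scal F z)) ^ orderOf (scal F z) = 1 := by rw [← map_pow, pow_orderOf_eq_one, map_one]
    rw [hc, smul_pow, one_pow] at h1
    obtain ⟨v, hv⟩ := exists_ne (0 : Fin n → ℂ)
    have h2 : (c ^ orderOf (scal F z)) • v = (1 : ℂ) • v := by
      have := LinearMap.congr_fun h1 v
      simpa using this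
    exact smul_left_injective ℂ hv h2
  have : ρ.character (scal F z * g) = c * ρ.character g := by
    rw [Representation.character, map_mul, hc, smul_mul_assoc, one_mul, map_smul, smul_eq_mul]
    rfl
  rw [this, norm_mul, hnorm, one_mul]

/-- Conjugation by `x ∈ GL_2` on `SL_2`. -/
def conjSL (x : GL (Fin 2) F) : SL(2, F) ≃* SL(2, F) where
  toFun h := ⟨((x⁻¹ * SpecialLinearGroup.toGL h * x : GL (Fin 2) F) : Matrix (Fin 2) (Fin 2) F), by
    rw [Units.val_mul, Units.val_mul, Matrix.det_units_conj']; exact h.2⟩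
  invFun h := ⟨((x * SpecialLinearGroup.toGL h * x⁻¹ : GL (Fin 2) F) : Matrix (Fin 2) (Fin 2) F), by
    rw [Units.val_mul, Units.val_mul, Matrix.det_units_conj]; exact h.2⟩
  left_inv h := SpecialLinearGroup.toGL_injective (Units.ext (by
    change (x : Matrix (Fin 2) (Fin 2) F) * ((x⁻¹ * SpecialLinearGroup.toGL h * x : GL (Fin 2) F) : Matrix (Fin 2) (Fin 2) F) * ((x⁻¹ : GL (Fin 2) F) : Matrix (Fin 2) (Fin 2) F) = (SpecialLinearGroup.toGL h : Matrix (Fin 2) (Fin 2) F)
    simp only [← Units.val_mul]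
    congr 1; group))
  right_inv h := SpecialLinearGroup.toGL_injective (Units.ext (by
    change ((x⁻¹ : GL (Fin 2) F) : Matrix (Fin 2) (Fin 2) F) * ((x * SpecialLinearGroup.toGL h * x⁻¹ : GL (Fin 2) F) : Matrix (Fin 2) (Fin 2) F) * (x : Matrix (Fin 2) (Fin 2) F) = (SpecialLinearGroup.toGL h : Matrix (Fin 2) (Fin 2) F)
    simp only [← Units.val_mul]
    congr 1; group))
  map_mul' h k := SpecialLinearGroup.toGL_injective (Units.ext (by
    change ((x⁻¹ * SpecialLinearGroup.toGL (h * k) * x : GL (Fin 2) F) : Matrix (Fin 2) (Fin 2) F) =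
      ((x⁻¹ * SpecialLinearGroup.toGL h * x : GL (Fin 2) F) : Matrix (Fin 2) (Fin 2) F) *
        ((x⁻¹ * SpecialLinearGroup.toGL k * x : GL (Fin 2) F) : Matrix (Fin 2) (Fin 2) F)
    simp only [← Units.val_mul, map_mul]
    congr 1; group))

theorem toGL_conjSL (x : GL (Fin 2) F) (h : SL(2, F)) :
    SpecialLinearGroup.toGL (conjSL x h) = x⁻¹ * SpecialLinearGroup.toGL h * x := Units.ext rfl

theorem res_conjSL {ψ : GL (Fin 2) F → ℂ} (hψ : IsClassFunction (GL (Fin 2) F) ψ) (x : GL (Fin 2) F) (h : SL(2, F)) :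
    res ψ (conjSL x h) = res ψ h := by
  rw [res, res, toGL_conjSL]
  simpa using hψ (SpecialLinearGroup.toGL h) x⁻¹

theorem exists_scal_mul {g : GL (Fin 2) F} (hs : IsSquare (g : Matrix (Fin 2) (Fin 2) F).det) :
    ∃ (z : Fˣ) (h : SL(2, F)), g = scal F z * SpecialLinearGroup.toGL h := by
  obtain ⟨s, hs⟩ := hs
  have hs0 : s ≠ 0 := fun h => GeneralLinearGroup.det_ne_zero g (by rw [hs, h, mul_zero])
  refine ⟨Units.mk0 s hs0, ⟨s⁻¹ • (g : Matrix (Fin 2) (Fin 2) F), by rw [Matrix.det_smul, hs, Fintype.card_fin]; field_simp⟩, Units.ext ?_⟩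
  rw [Units.val_mul, coe_scal, Units.val_mk0, smul_mul_assoc, one_mul]
  exact (smul_inv_smul₀ hs0 _).symm

variable [Fintype F] [DecidableEq F]

/-- The norm of a restriction is at most the number of square roots of one. -/
theorem res_norm {ψ : GL (Fin 2) F → ℂ} (hψ : IsIrrCharacter (GL (Fin 2) F) ψ) :
    ∃ n : ℕ, 1 ≤ n ∧ n ≤ Nat.card {z : Fˣ // z * z = 1} ∧ classInner (res ψ) (res ψ) = n := by
  classical
  obtain ⟨n, hn⟩ := Char.IsCharacter.classInner_nat (res_isCharacter (Char.IsIrrCharacter.isCharacter hψ))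
    (res_isCharacter (Char.IsIrrCharacter.isCharacter hψ))
  refine ⟨n, ?_, ?_, hn⟩
  · rcases Nat.eq_zero_or_pos n with rfl | h
    · rw [Nat.cast_zero, Char.classInner_self_eq_zero] at hn
      exact absurd (by have := congrFun hn 1; simpa [res] using this) (Char.IsIrrCharacter.apply_one_ne_zero hψ)
    · exact h
  · set k := Nat.card {z : Fˣ // z * z = 1} with hk
    let f : Fˣ × SL(2, F) → GL (Fin 2) F := fun p => scal F p.1 * SpecialLinearGroup.toGL p.2
    have hsum : ∀ φ : GL (Fin 2) F → ℂ, ((Nat.card SL(2, F) : ℂ) * classInner (fun s => φ (SpecialLinearGroup.toGL s)) (fun s => φ (SpecialLinearGroup.toGL s))) =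
        ∑ s : SL(2, F), ((‖φ (SpecialLinearGroup.toGL s)‖ : ℝ) : ℂ) ^ 2 := fun φ => by
      rw [Char.card_mul_classInner]
      exact Finset.sum_congr rfl fun s _ => Complex.mul_conj' _
    have h1 : (Nat.card SL(2, F) : ℝ) * n = ∑ s : SL(2, F), ‖ψ (SpecialLinearGroup.toGL s)‖ ^ 2 := by
      have := hsum ψ
      rw [show classInner (fun s => ψ (SpecialLinearGroup.toGL s)) (fun s => ψ (SpecialLinearGroup.toGL s)) = (n : ℂ) from hn] at this
      exact_mod_cast this
    have h2 : ∑ p : Fˣ × SL(2, F), ‖ψ (f p)‖ ^ 2 = (Fintype.card Fˣ : ℝ) * ∑ s : SL(2, F), ‖ψ (SpecialLinearGroup.toGL s)‖ ^ 2 := by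
      rw [Fintype.sum_prod_type]
      simp only [f, norm_scal_mul hψ, Finset.sum_const, Finset.card_univ, nsmul_eq_mul]
    have hfib : ∀ g : GL (Fin 2) F, (Finset.univ.filter fun p => f p = g).card ≤ k := by
      intro g
      by_cases hne : ∃ p, f p = g
      · obtain ⟨⟨z₀, s₀⟩, rfl⟩ := hne
        rw [hk, Nat.card_eq_fintype_card, ← Finset.card_univ]
        refine Finset.card_le_card_of_injOn (fun p => (⟨if h : (p.1 / z₀) * (p.1 / z₀) = 1 then p.1 / z₀ else 1, by split_ifs with h <;> simp [h]⟩ : {z : Fˣ // z * z = 1})) (fun _ _ => Finset.mem_univ _) ?_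
        have hsq : ∀ p, f p = f (z₀, s₀) → (p.1 / z₀) * (p.1 / z₀) = 1 := by
          rintro ⟨z, s⟩ hp
          have hd := congrArg (fun g : GL (Fin 2) F => (g : Matrix (Fin 2) (Fin 2) F).det) hp
          simp only [f, Units.val_mul, Matrix.det_mul, coe_scal, Matrix.det_smul, Fintype.card_fin, Matrix.det_one, mul_one] at hd
          simp at hd
          have h' : z * z = z₀ * z₀ := Units.ext (by rw [Units.val_mul, Units.val_mul]; linear_combination hd)
          rw [div_mul_div_comm, h', div_self']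
        intro p hp q hq hpq
        simp only [Finset.coe_filter, Finset.mem_univ, true_and, Set.mem_ofPred_eq] at hp hq
        have := congrArg Subtype.val hpq
        simp only [dif_pos (hsq p hp), dif_pos (hsq q hq), div_left_inj] at this
        obtain ⟨z, s⟩ := p
        obtain ⟨z', s'⟩ := q
        simp only at this
        subst this
        exact Prod.ext rfl (SpecialLinearGroup.toGL_injective (mul_left_cancel (hp.trans hq.symm)))
      · rw [Finset.filter_eq_empty_iff.2 (fun {p} _ hp => hne ⟨p, hp⟩)]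
        simp
    have h3 : ∑ p : Fˣ × SL(2, F), ‖ψ (f p)‖ ^ 2 ≤ (k : ℝ) * ∑ g : GL (Fin 2) F, ‖ψ g‖ ^ 2 := by
      rw [← Finset.sum_fiberwise (Finset.univ : Finset (Fˣ × SL(2, F))) f, Finset.mul_sum]
      refine Finset.sum_le_sum fun g _ => ?_
      rw [Finset.sum_congr rfl (fun p hp => by rw [(Finset.mem_filter.1 hp).2]), Finset.sum_const, nsmul_eq_mul]
      exact mul_le_mul_of_nonneg_right (by exact_mod_cast hfib g) (sq_nonneg _)
    have h4 : ∑ g : GL (Fin 2) F, ‖ψ g‖ ^ 2 = (Nat.card (GL (Fin 2) F) : ℝ) := by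
      have := Char.card_mul_classInner ψ ψ
      rw [Char.classInner_irr_self hψ, mul_one] at this
      have h' : ((∑ g : GL (Fin 2) F, ‖ψ g‖ ^ 2 : ℝ) : ℂ) = ((Nat.card (GL (Fin 2) F) : ℝ) : ℂ) := by
        push_cast
        rw [this]
        exact Finset.sum_congr rfl fun s _ => (Complex.mul_conj' _).symm
      exact_mod_cast h'
    rw [h2, ← h1, h4] at h3
    have h5 : Nat.card (GL (Fin 2) F) = Fintype.card Fˣ * Nat.card SL(2, F) := by
      rw [← GLOrder.card_SL_mul (ι := Fin 2), ← GLOrder.card_units, Nat.card_eq_fintype_card]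
    rw [h5, Nat.cast_mul] at h3
    have hpos : (0 : ℝ) < (Fintype.card Fˣ : ℝ) * (Nat.card SL(2, F) : ℝ) :=
      mul_pos (Nat.cast_pos.2 Fintype.card_pos) (Nat.cast_pos.2 Nat.card_pos)
    have : (n : ℝ) ≤ (k : ℝ) := le_of_mul_le_mul_left (by linarith [h3]) hpos
    exact_mod_cast this

theorem card_roots_le : Nat.card {z : Fˣ // z * z = 1} ≤ 2 := by
  classical
  have h : Function.Injective (fun z : {z : Fˣ // z * z = 1} => decide ((z.1 : F) = 1)) := by
    rintro ⟨a, ha⟩ ⟨b, hb⟩ h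
    simp only [decide_eq_decide] at h
    have ha' : (a : F) * a = 1 := by rw [← Units.val_mul, ha, Units.val_one]
    have hb' : (b : F) * b = 1 := by rw [← Units.val_mul, hb, Units.val_one]
    refine Subtype.ext (Units.ext ?_)
    rcases mul_self_eq_one_iff.1 ha' with e | e <;> rcases mul_self_eq_one_iff.1 hb' with e' | e'
    · rw [e, e']
    · exact e.trans (h.1 e).symm
    · exact (h.2 e').trans e'.symm
    · rw [e, e']
  exact (Nat.card_le_card_of_injective _ h).trans (by simp)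

/-- In characteristic two restrictions are irreducible. -/
theorem res_irr_of_char_two [CharP F 2] {ψ : GL (Fin 2) F → ℂ} (hψ : IsIrrCharacter (GL (Fin 2) F) ψ) :
    IsIrrCharacter SL(2, F) (res ψ) := by
  obtain ⟨n, hn1, hn, hnorm⟩ := res_norm hψ
  have hk : Nat.card {z : Fˣ // z * z = 1} = 1 := by
    rw [Nat.card_eq_one_iff_exists]
    refine ⟨⟨1, one_mul 1⟩, fun a => Subtype.ext (Units.ext ?_)⟩
    have ha' : (a.1 : F) * a.1 = 1 := by rw [← Units.val_mul, a.2, Units.val_one]
    rcases mul_self_eq_one_iff.1 ha' with h' | h'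
    · exact h'
    · exact h'.trans (CharTwo.neg_eq 1)
  rw [hk] at hn
  rw [Char.isIrrCharacter_iff_norm_one (res_isCharacter (Char.IsIrrCharacter.isCharacter hψ)), hnorm,
    show n = 1 by omega, Nat.cast_one]

/-- `diag (ε, 1)`. -/
noncomputable def dx {e : F} (he : e ≠ 0) : GL (Fin 2) F :=
  GeneralLinearGroup.mkOfDetNeZero !![e, 0; 0, 1] (by simp [Matrix.det_fin_two, he])

theorem ne_zero_of_nonsquare {e : F} (he : ¬ IsSquare e) : e ≠ 0 := fun h0 => he ⟨0, h0.trans (mul_zero 0).symm⟩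

/-- A restriction is irreducible or splits into two conjugate distinct irreducibles. -/
theorem res_cases {e : F} (he : ¬ IsSquare e) {ψ : GL (Fin 2) F → ℂ} (hψ : IsIrrCharacter (GL (Fin 2) F) ψ) :
    IsIrrCharacter SL(2, F) (res ψ) ∨ ∃ θ : SL(2, F) → ℂ, IsIrrCharacter SL(2, F) θ ∧
      IsIrrCharacter SL(2, F) (fun h => θ (conjSL (dx (ne_zero_of_nonsquare he)) h)) ∧
      (fun h => θ (conjSL (dx (ne_zero_of_nonsquare he)) h)) ≠ θ ∧
      res ψ = θ + (fun h => θ (conjSL (dx (ne_zero_of_nonsquare he)) h)) := by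
  classical
  haveI := Fintype.ofFinite (IrrCharacter SL(2, F))
  haveI := Fintype.ofFinite (IrrCharacter (GL (Fin 2) F))
  have he0 : e ≠ 0 := ne_zero_of_nonsquare he
  change _ ∨ ∃ θ : SL(2, F) → ℂ, IsIrrCharacter SL(2, F) θ ∧
      IsIrrCharacter SL(2, F) (fun h => θ (conjSL (dx he0) h)) ∧
      (fun h => θ (conjSL (dx he0) h)) ≠ θ ∧ res ψ = θ + (fun h => θ (conjSL (dx he0) h))
  have hR := res_isCharacter (Char.IsIrrCharacter.isCharacter hψ)
  obtain ⟨n, hn1, hn, hnorm⟩ := res_norm hψ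
  have hn2 : n ≤ 2 := hn.trans card_roots_le
  rcases (show n = 1 ∨ n = 2 by omega) with rfl | rfl
  · exact Or.inl ((Char.isIrrCharacter_iff_norm_one hR).2 (by rw [hnorm, Nat.cast_one]))
  right
  obtain ⟨m, hdec, hm⟩ := Char.IsCharacter.decompose hR
  obtain ⟨θ, hθ⟩ : ∃ θ : IrrCharacter SL(2, F), m θ ≠ 0 := by
    by_contra hc
    push Not at hc
    have : res ψ = 0 := by rw [hdec]; simp [hc]
    rw [this, Char.classInner_zero_left] at hnorm
    norm_num at hnorm
  obtain ⟨hirr, hne⟩ := split_norm_two hR (by simpa using hnorm) θ.2 (by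
    rw [← Char.classInner_conj_symm, hm, map_natCast]; exact_mod_cast hθ)
  set θ₂ : SL(2, F) → ℂ := res ψ - (θ : SL(2, F) → ℂ) with hθ₂
  set E := conjSL (dx he0) with hE
  have hsum : res ψ = (θ : SL(2, F) → ℂ) + θ₂ := (add_sub_cancel _ _).symm
  have hirr' : IsIrrCharacter SL(2, F) (fun h => (θ : SL(2, F) → ℂ) (E h)) := Char.IsIrrCharacter.comp_equiv θ.2 E
  have hcomp : classInner (fun h => (θ : SL(2, F) → ℂ) (E h)) (res ψ) = 1 := by
    rw [show res ψ = fun h => res ψ (E h) from funext fun h => (res_conjSL (Char.IsIrrCharacter.isClassFunction hψ) _ h).symm,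
      Char.classInner_comp_equiv E (θ : SL(2, F) → ℂ) (res ψ), hsum, Char.classInner_add_right,
      Char.classInner_irr_self θ.2, Char.classInner_irr_of_ne θ.2 hirr hne.symm, add_zero]
  suffices hne' : (fun h => (θ : SL(2, F) → ℂ) (E h)) ≠ (θ : SL(2, F) → ℂ) by
    refine ⟨θ, θ.2, hirr', hne', ?_⟩
    have h2 : (fun h => (θ : SL(2, F) → ℂ) (E h)) = θ₂ := by
      by_contra hne2
      rw [hsum, Char.classInner_add_right, Char.classInner_irr_of_ne hirr' θ.2 hne',
        Char.classInner_irr_of_ne hirr' hirr hne2, add_zero] at hcomp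
      exact zero_ne_one hcomp
    rw [h2]; exact hsum
  intro hfix
  -- an invariant constituent extends to a class function of GL₂
  have hinv : ∀ (g : GL (Fin 2) F) (h : SL(2, F)), (θ : SL(2, F) → ℂ) (conjSL g h) = (θ : SL(2, F) → ℂ) h := by
    have hsq : ∀ (g : GL (Fin 2) F), IsSquare (g : Matrix (Fin 2) (Fin 2) F).det → ∀ h : SL(2, F),
        (θ : SL(2, F) → ℂ) (conjSL g h) = (θ : SL(2, F) → ℂ) h := by
      intro g hg h
      obtain ⟨z, k, rfl⟩ := exists_scal_mul hg
      have : conjSL (scal F z * SpecialLinearGroup.toGL k) h = k⁻¹ * h * k := by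
        refine SpecialLinearGroup.toGL_injective ?_
        rw [toGL_conjSL, map_mul, map_mul, map_inv]
        have hc := Subgroup.mem_center_iff.1 (scal_central z) (SpecialLinearGroup.toGL h)
        calc (scal F z * SpecialLinearGroup.toGL k)⁻¹ * SpecialLinearGroup.toGL h * (scal F z * SpecialLinearGroup.toGL k)
            = (SpecialLinearGroup.toGL k)⁻¹ * ((scal F z)⁻¹ * (SpecialLinearGroup.toGL h * scal F z)) * SpecialLinearGroup.toGL k := by group
          _ = _ := by rw [hc, inv_mul_cancel_left]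
      rw [this]
      simpa using Char.IsIrrCharacter.isClassFunction θ.2 h k⁻¹
    intro g h
    by_cases hg : IsSquare (g : Matrix (Fin 2) (Fin 2) F).det
    · exact hsq g hg h
    · have hodd : ringChar F ≠ 2 := fun h2 => he (FiniteField.isSquare_of_char_two h2 e)
      have hd : IsSquare (((dx he0)⁻¹ * g : GL (Fin 2) F) : Matrix (Fin 2) (Fin 2) F).det := by
        have h0 := GeneralLinearGroup.det_ne_zero g
        have h1 : (((dx he0)⁻¹ * g : GL (Fin 2) F) : Matrix (Fin 2) (Fin 2) F).det * e = (g : Matrix (Fin 2) (Fin 2) F).det := by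
          conv_rhs => rw [show g = dx he0 * ((dx he0)⁻¹ * g) from (mul_inv_cancel_left _ _).symm, Units.val_mul, Matrix.det_mul]
          rw [show ((dx he0 : GL (Fin 2) F) : Matrix (Fin 2) (Fin 2) F).det = e by simp [dx, GLOrder.coe_mkOfDetNeZero, Matrix.det_fin_two]]
          ring
        have hd0 : (((dx he0)⁻¹ * g : GL (Fin 2) F) : Matrix (Fin 2) (Fin 2) F).det ≠ 0 := GeneralLinearGroup.det_ne_zero _
        rw [FiniteField.isSquare_iff hodd hd0]
        rcases FiniteField.pow_dichotomy hodd hd0 with h' | h'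
        · exact h'
        · exfalso
          refine hg ((FiniteField.isSquare_iff hodd h0).2 ?_)
          rw [← h1, mul_pow, h', (FiniteField.pow_dichotomy hodd he0).resolve_left (fun h'' => he ((FiniteField.isSquare_iff hodd he0).2 h''))]
          ring
      have : conjSL g h = conjSL ((dx he0)⁻¹ * g) (E h) := by
        refine SpecialLinearGroup.toGL_injective ?_
        rw [toGL_conjSL, toGL_conjSL, hE, toGL_conjSL]
        group
      rw [this, hsq _ hd (E h)]
      exact congrFun hfix h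
  let F₁ : GL (Fin 2) F → ℂ := Function.extend SpecialLinearGroup.toGL (θ : SL(2, F) → ℂ) 0
  have hF1 : ∀ h, F₁ (SpecialLinearGroup.toGL h) = (θ : SL(2, F) → ℂ) h := fun h =>
    SpecialLinearGroup.toGL_injective.extend_apply _ _ h
  have hcl : IsClassFunction (GL (Fin 2) F) F₁ := by
    intro g x
    by_cases hg : ∃ h, SpecialLinearGroup.toGL h = g
    · obtain ⟨h, rfl⟩ := hg
      rw [show x * SpecialLinearGroup.toGL h * x⁻¹ = SpecialLinearGroup.toGL (conjSL x⁻¹ h) by rw [toGL_conjSL, inv_inv],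
        hF1, hF1, hinv]
    · have hg' : ¬ ∃ h, SpecialLinearGroup.toGL h = x * g * x⁻¹ := by
        rintro ⟨h, hh⟩
        exact hg ⟨conjSL x h, by rw [toGL_conjSL, hh]; group⟩
      rw [show F₁ (x * g * x⁻¹) = 0 from Function.extend_apply' _ _ _ hg', show F₁ g = 0 from Function.extend_apply' _ _ _ hg]
  have hcoef : ∀ φ : IrrCharacter (GL (Fin 2) F), classInner F₁ (φ : GL (Fin 2) F → ℂ) =
      (Nat.card (GL (Fin 2) F) : ℂ)⁻¹ * ((Nat.card SL(2, F) : ℂ) * classInner (θ : SL(2, F) → ℂ) (res (φ : GL (Fin 2) F → ℂ))) := by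
    intro φ
    rw [classInner, Char.card_mul_classInner]
    congr 1
    rw [← Finset.sum_subset (Finset.subset_univ (Finset.univ.map ⟨_, SpecialLinearGroup.toGL_injective (R := F) (n := Fin 2)⟩))]
    · rw [Finset.sum_map]
      exact Finset.sum_congr rfl fun h _ => by rw [Function.Embedding.coeFn_mk, hF1]; rfl
    · intro g _ hg
      have : F₁ g = 0 := Function.extend_apply' _ _ _ (fun ⟨h, hh⟩ => hg (Finset.mem_map.2 ⟨h, Finset.mem_univ _, hh⟩))
      rw [this, zero_mul]
  have hexp := Char.classFunction_eq_sum hcl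
  have h0 : classInner (θ : SL(2, F) → ℂ) θ₂ = 0 := Char.classInner_irr_of_ne θ.2 hirr hne.symm
  rw [show (θ : SL(2, F) → ℂ) = ∑ φ : IrrCharacter (GL (Fin 2) F), classInner F₁ (φ : GL (Fin 2) F → ℂ) • res (φ : GL (Fin 2) F → ℂ) by
    funext h
    rw [← hF1 h]
    conv_lhs => rw [hexp]
    simp [Finset.sum_apply, res], Char.classInner_sum_left] at h0
  simp only [Char.classInner_smul_left, hcoef] at h0
  choose a ha using fun φ : IrrCharacter (GL (Fin 2) F) =>
    Char.IsCharacter.classInner_nat (Char.IsIrrCharacter.isCharacter θ.2) (res_isCharacter (Char.IsIrrCharacter.isCharacter φ.2))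
  choose b hb using fun φ : IrrCharacter (GL (Fin 2) F) =>
    Char.IsCharacter.classInner_nat (res_isCharacter (Char.IsIrrCharacter.isCharacter φ.2)) (Char.IsIrrCharacter.isCharacter hirr)
  simp only [ha, hb, mul_assoc, ← Finset.mul_sum] at h0
  have hc0 : (Nat.card (GL (Fin 2) F) : ℂ)⁻¹ ≠ 0 := inv_ne_zero (Nat.cast_ne_zero.2 Nat.card_pos.ne')
  have hs0 : (Nat.card SL(2, F) : ℂ) ≠ 0 := Nat.cast_ne_zero.2 Nat.card_pos.ne'
  have h' : ∑ φ, a φ * b φ = 0 := by
    have := ((mul_eq_zero.1 ((mul_eq_zero.1 h0).resolve_left hc0)).resolve_left hs0)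
    exact_mod_cast this
  have h1 := (Finset.sum_eq_zero_iff.1 h') ⟨ψ, hψ⟩ (Finset.mem_univ _)
  have ha1 : (a ⟨ψ, hψ⟩ : ℂ) = 1 := by
    rw [← ha]
    simp only
    rw [hsum, Char.classInner_add_right, Char.classInner_irr_self θ.2, Char.classInner_irr_of_ne θ.2 hirr hne.symm, add_zero]
  have hb1 : (b ⟨ψ, hψ⟩ : ℂ) = 1 := by
    rw [← hb]
    simp only
    rw [hsum, Char.classInner_add_left, Char.classInner_irr_of_ne θ.2 hirr hne.symm, Char.classInner_irr_self hirr, zero_add]
  rw [Nat.cast_eq_one] at ha1 hb1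
  rw [ha1, hb1] at h1
  exact one_ne_zero h1

/-- Every irreducible character of `SL_2` is a constituent of a restriction. -/
theorem exists_over {θ : SL(2, F) → ℂ} (hθ : IsIrrCharacter SL(2, F) θ) :
    ∃ ψ : GL (Fin 2) F → ℂ, IsIrrCharacter (GL (Fin 2) F) ψ ∧ classInner θ (res ψ) ≠ 0 := by
  classical
  haveI := Fintype.ofFinite (IrrCharacter (GL (Fin 2) F))
  by_contra hc
  push Not at hc
  have h0 : classInner θ (∑ φ : IrrCharacter (GL (Fin 2) F), (φ : GL (Fin 2) F → ℂ) 1 • res (φ : GL (Fin 2) F → ℂ)) = 0 := by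
    rw [Char.classInner_sum_right]
    refine Finset.sum_eq_zero fun φ _ => ?_
    rw [Char.classInner_smul_right, hc _ φ.2, mul_zero]
  have hval : ∀ h : SL(2, F), (∑ φ : IrrCharacter (GL (Fin 2) F), (φ : GL (Fin 2) F → ℂ) 1 • res (φ : GL (Fin 2) F → ℂ)) h =
      if h = 1 then (Nat.card (GL (Fin 2) F) : ℂ) else 0 := by
    intro h
    simp only [Finset.sum_apply, Pi.smul_apply, smul_eq_mul, res]
    rw [Char.sum_degree_mul_apply]
    exact if_congr ⟨fun e => SpecialLinearGroup.toGL_injective (e.trans (map_one _).symm), fun e => by rw [e, map_one]⟩ rfl rfl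
  simp only [classInner, hval, apply_ite (starRingEnd ℂ), map_zero, mul_ite, mul_zero, Finset.sum_ite_eq',
    Finset.mem_univ, if_true, map_natCast, mul_eq_zero, inv_eq_zero, Nat.cast_eq_zero] at h0
  rcases h0 with h | h | h
  · exact Nat.card_pos.ne' h
  · exact Char.IsIrrCharacter.apply_one_ne_zero hθ h
  · exact Nat.card_pos.ne' h

end Cfsg.Agent.GLTwoChar
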