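/-
The irreducible characters of `SL_2` over a finite field.
Main results (namespace `Cfsg.Agent.GLTwoChar`):
* `psS`, `stS`; `res_ps`, `res_st`; `sl_cases`: the five kinds of irreducible characters.
-/
import Cfsg.Agent.Lib.GLTwoChar.Restrict

set_option autoImplicit false
set_option linter.unusedSectionVars false

namespace Cfsg.Agent.GLTwoChar

open Matrix Cfsg
open scoped MatrixGroups

variable {F : Type*} [Field F]

theorem toGL_x (c : F) : SpecialLinearGroup.toGL ((slDatum F).x c) = (glDatum F).x c :=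
  Units.ext (((slDatum F).M_x c).trans ((glDatum F).M_x c).symm)

theorem toGL_u (c : F) : SpecialLinearGroup.toGL ((slDatum F).u c) = (glDatum F).u c :=
  Units.ext (((slDatum F).M_u c).trans ((glDatum F).M_u c).symm)

theorem extend_res (α β : MulChar F ℂ) (y : SL(2, F)) :
    extendByZero (glDatum F).B ⇑((glDatum F).theta α β) (SpecialLinearGroup.toGL y) =
      extendByZero (slDatum F).B ⇑((slDatum F).theta (α * β⁻¹) 1) y := by
  by_cases hy : y ∈ (slDatum F).B
  · rw [Char.extendByZero_mem (glDatum F).B _ (g := SpecialLinearGroup.toGL y) hy, Char.extendByZero_mem (slDatum F).B _ hy,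
      sTheta_apply, MulChar.mul_apply, MulChar.inv_apply', ← sl_diag_inv ⟨y, hy⟩]
    rfl
  · rw [Char.extendByZero_not_mem (glDatum F).B _ (g := SpecialLinearGroup.toGL y) hy, Char.extendByZero_not_mem (slDatum F).B _ hy]

variable [Fintype F] [DecidableEq F]

/-- A principal series character of `SL_2`. -/
noncomputable def psS (γ : MulChar F ℂ) : SL(2, F) → ℂ := indFun (slDatum F).B ⇑((slDatum F).theta γ 1)

/-- The Steinberg character of `SL_2`. -/
noncomputable def stS (F : Type*) [Field F] [Fintype F] [DecidableEq F] : SL(2, F) → ℂ := psS 1 - 1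

theorem psS_one (γ : MulChar F ℂ) : psS γ 1 = (Fintype.card F : ℂ) + 1 := by
  classical
  exact (slDatum F).indFun_one _

theorem stS_one : stS F 1 = (Fintype.card F : ℂ) := by simp [stS, psS_one]

theorem res_ps (α β : MulChar F ℂ) : res (ps α β) = psS (α * β⁻¹) := by
  classical
  funext h
  rw [res, ps, psS, (glDatum F).indFun_apply, (slDatum F).indFun_apply, extend_res]
  refine congrArg₂ _ rfl (Finset.sum_congr rfl fun c _ => ?_)
  rw [← extend_res, map_mul, map_mul, map_inv, toGL_x]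

theorem res_lam (α : MulChar F ℂ) : res (lam α : GL (Fin 2) F → ℂ) = 1 :=
  funext fun h => by
    rw [res, lam_apply, show ((SpecialLinearGroup.toGL h : GL (Fin 2) F) : Matrix (Fin 2) (Fin 2) F).det = 1 from h.2, map_one]
    rfl

theorem res_st (α : MulChar F ℂ) : res (st α) = stS F := by
  funext h
  have h1 := congrFun (res_ps α α) h
  have h2 := congrFun (res_lam α) h
  rw [mul_inv_cancel] at h1
  simp only [res, ps] at h1 h2
  simp only [res, st, stS, Pi.sub_apply, h1, h2]

theorem classInner_psS (γ δ : MulChar F ℂ) :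
    classInner (psS γ) (psS δ) = (if γ = δ then 1 else 0) + (if γ = δ⁻¹ then 1 else 0) := by
  classical
  rw [psS, psS, (slDatum F).classInner_indFun ((slDatum F).isT_theta γ 1) ((slDatum F).isT_theta δ 1), tw_sTheta]
  congr 1 <;> exact if_congr sTheta_inj rfl rfl

theorem psS_isCharacter (γ : MulChar F ℂ) : IsCharacter SL(2, F) (psS γ) := by
  classical
  exact (slDatum F).isCharacter_indFun _

theorem classInner_one_psS (γ : MulChar F ℂ) :
    classInner (1 : SL(2, F) → ℂ) (psS γ) = if γ = 1 then 1 else 0 := by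
  classical
  rw [psS, Char.frobenius_reciprocity' _ _ (Char.IsIrrCharacter.isClassFunction Char.isIrrCharacter_one),
    show (fun b : (slDatum F).B => (1 : SL(2, F) → ℂ) b) = ⇑((slDatum F).theta 1 1) from funext fun b => by
      rw [sTheta_apply, MulChar.one_apply (isUnit_iff_ne_zero.2 ((slDatum F).diag_ne_zero b).1)]; rfl,
    Char.classInner_irr (Char.isIrrCharacter_of_hom _) (Char.isIrrCharacter_of_hom _)]
  exact if_congr ((DFunLike.coe_fn_eq).trans (sTheta_inj.trans eq_comm)) rfl rfl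

theorem stS_irr : IsIrrCharacter SL(2, F) (stS F) := by
  refine (split_norm_two (psS_isCharacter 1) ?_ Char.isIrrCharacter_one ?_).1
  · rw [classInner_psS]; simp [one_add_one_eq_two]
  · rw [classInner_one_psS]; simp

theorem psS_irr_iff (γ : MulChar F ℂ) : IsIrrCharacter SL(2, F) (psS γ) ↔ γ ^ 2 ≠ 1 := by
  classical
  exact ((slDatum F).isIrr_indFun_iff ((slDatum F).isT_theta γ 1)).trans (not_congr (sTheta_eq_tw_iff γ))

theorem psS_eq_iff (γ δ : MulChar F ℂ) : psS γ = psS δ ↔ γ = δ ∨ γ = δ⁻¹ := by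
  classical
  rw [psS, psS, (slDatum F).indFun_eq_iff ((slDatum F).isT_theta γ 1) ((slDatum F).isT_theta δ 1), tw_sTheta,
    sTheta_inj, sTheta_inj]

theorem not_cusp_of_psS {θ : SL(2, F) → ℂ} (hθ : IsCharacter SL(2, F) θ) {γ : MulChar F ℂ}
    (h : classInner θ (psS γ) ≠ 0) : ¬ (slDatum F).Cusp θ := by
  classical
  exact (slDatum F).not_cusp_of_constituent hθ ((slDatum F).isT_theta γ 1) h

theorem not_cusp_one : ¬ (slDatum F).Cusp (1 : SL(2, F) → ℂ) :=
  not_cusp_of_psS Char.isCharacter_one (γ := 1) (by rw [classInner_one_psS]; simp)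

theorem not_cusp_stS : ¬ (slDatum F).Cusp (stS F) := by
  refine not_cusp_of_psS (Char.IsIrrCharacter.isCharacter stS_irr) (γ := 1) ?_
  have h : psS (1 : MulChar F ℂ) = 1 + stS F := (add_sub_cancel _ _).symm
  rw [h, Char.classInner_add_right, Char.classInner_irr_self stS_irr]
  obtain ⟨m, hm⟩ := Char.IsCharacter.classInner_nat (Char.IsIrrCharacter.isCharacter stS_irr) (Char.isCharacter_one (G := SL(2, F)))
  rw [hm]
  exact_mod_cast Nat.succ_ne_zero m

/-- The sum over a unipotent subgroup is a natural number times `q`. -/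
theorem sum_u_nat {G : Type*} [Group G] (D : Datum F G) {χ : G → ℂ} (hχ : IsCharacter G χ) :
    ∃ m : ℕ, ∑ s : F, χ (D.u s) = (Fintype.card F : ℂ) * m := by
  let uh : Multiplicative F →* G :=
    ⟨⟨fun s => D.u s.toAdd, D.u_zero⟩, fun s t => D.u_add _ _⟩
  obtain ⟨m, hm⟩ := Char.IsCharacter.classInner_nat (Char.IsCharacter.comp_hom hχ uh) (Char.isCharacter_one (G := Multiplicative F))
  refine ⟨m, ?_⟩
  have h := Char.card_mul_classInner (fun s : Multiplicative F => χ (uh s)) 1
  rw [hm, Nat.card_eq_fintype_card, Fintype.card_multiplicative] at h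
  rw [h]
  refine (Fintype.sum_equiv Multiplicative.toAdd _ _ fun s => ?_).symm
  simp [uh]

theorem cusp_res {ψ : GL (Fin 2) F → ℂ} (hc : (glDatum F).Cusp ψ) : (slDatum F).Cusp (res ψ) := by
  rw [Datum.Cusp]
  simp only [res, toGL_u]
  exact hc

theorem cusp_of_add {θ θ' : SL(2, F) → ℂ} (hθ : IsCharacter SL(2, F) θ) (hθ' : IsCharacter SL(2, F) θ')
    (hc : (slDatum F).Cusp (θ + θ')) : (slDatum F).Cusp θ ∧ (slDatum F).Cusp θ' := by
  obtain ⟨m, hm⟩ := sum_u_nat (slDatum F) hθ
  obtain ⟨m', hm'⟩ := sum_u_nat (slDatum F) hθ'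
  simp only [Datum.Cusp, Pi.add_apply, Finset.sum_add_distrib, hm, hm'] at hc
  rw [← mul_add, mul_eq_zero] at hc
  have h : m + m' = 0 := by exact_mod_cast hc.resolve_left (Nat.cast_ne_zero.2 Fintype.card_ne_zero)
  exact ⟨by rw [Datum.Cusp, hm, show m = 0 by omega, Nat.cast_zero, mul_zero],
    by rw [Datum.Cusp, hm', show m' = 0 by omega, Nat.cast_zero, mul_zero]⟩

/-- A restriction is irreducible or the sum of two irreducibles of the same degree. -/
theorem res_split {ψ : GL (Fin 2) F → ℂ} (hψ : IsIrrCharacter (GL (Fin 2) F) ψ) :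
    IsIrrCharacter SL(2, F) (res ψ) ∨ ∃ θ θ' : SL(2, F) → ℂ, IsIrrCharacter SL(2, F) θ ∧ IsIrrCharacter SL(2, F) θ' ∧
      θ ≠ θ' ∧ θ 1 = θ' 1 ∧ res ψ = θ + θ' := by
  by_cases h2 : ringChar F = 2
  · haveI : CharP F 2 := h2 ▸ ringChar.charP F
    exact Or.inl (res_irr_of_char_two hψ)
  obtain ⟨e, he⟩ := FiniteField.exists_nonsquare h2
  rcases res_cases he hψ with h | ⟨θ, h1, h3, h4, h5⟩
  · exact Or.inl h
  · refine Or.inr ⟨θ, _, h1, h3, fun h => h4 h.symm, ?_, h5⟩
    simp only [map_one]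

theorem eq_or_eq_of_constituent {θ χ χ' φ : SL(2, F) → ℂ} (hθ : IsIrrCharacter SL(2, F) θ)
    (hχ : IsIrrCharacter SL(2, F) χ) (hχ' : IsIrrCharacter SL(2, F) χ') (hφ : φ = χ + χ')
    (h : classInner θ φ ≠ 0) : θ = χ ∨ θ = χ' := by
  by_contra hc
  push Not at hc
  apply h
  rw [hφ, Char.classInner_add_right, Char.classInner_irr_of_ne hθ hχ hc.1, Char.classInner_irr_of_ne hθ hχ' hc.2, add_zero]

/-- Classification of the irreducible characters of `SL_2`. -/
theorem sl_cases {θ : SL(2, F) → ℂ} (hθ : IsIrrCharacter SL(2, F) θ) :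
    θ = 1 ∨ θ = stS F ∨ (∃ γ, γ ^ 2 ≠ 1 ∧ θ = psS γ) ∨
      (∃ γ, γ ≠ 1 ∧ γ ^ 2 = 1 ∧ classInner θ (psS γ) ≠ 0 ∧ 2 * θ 1 = (Fintype.card F : ℂ) + 1) ∨
      ((slDatum F).Cusp θ ∧
        ((θ 1 = (Fintype.card F : ℂ) - 1 ∧ θ ((slDatum F).u 1) = -1) ∨ 2 * θ 1 = (Fintype.card F : ℂ) - 1)) := by
  obtain ⟨ψ, hψ, hne⟩ := exists_over hθ
  rcases gl_cases hψ with ⟨α, rfl⟩ | ⟨α, rfl⟩ | ⟨α, β, hab, rfl⟩ | hc
  · left
    rw [res_lam] at hne
    exact eq_of_classInner_ne_zero Char.isIrrCharacter_one hθ hne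
  · right; left
    rw [res_st] at hne
    exact eq_of_classInner_ne_zero stS_irr hθ hne
  · right; right
    rw [res_ps] at hne
    by_cases hγ : (α * β⁻¹) ^ 2 = 1
    · right; left
      refine ⟨_, fun h => hab (mul_inv_eq_one.1 h), hγ, hne, ?_⟩
      rcases res_split hψ with hirr | ⟨χ, χ', h1, h2, -, h4, h5⟩
      · exact absurd hγ ((psS_irr_iff _).1 (res_ps α β ▸ hirr))
      · rw [res_ps] at h5
        have hsum : χ 1 + χ' 1 = (Fintype.card F : ℂ) + 1 := by
          rw [← Pi.add_apply, ← h5, psS_one]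
        rcases eq_or_eq_of_constituent hθ h1 h2 h5 hne with rfl | rfl <;> rw [← hsum, h4] <;> ring
    · left
      exact ⟨_, hγ, eq_of_classInner_ne_zero ((psS_irr_iff _).2 hγ) hθ hne⟩
  · right; right; right; right
    obtain ⟨hd, hu⟩ := gl_cusp hψ hc
    have hres1 : res ψ 1 = (Fintype.card F : ℂ) - 1 := by rw [res, map_one, hd]
    have hcr := cusp_res hc
    rcases res_split hψ with hirr | ⟨χ, χ', h1, h2, -, h4, h5⟩
    · obtain rfl := eq_of_classInner_ne_zero hirr hθ hne
      exact ⟨hcr, Or.inl ⟨hres1, by rw [res, toGL_u, hu]⟩⟩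
    · rw [h5] at hcr hres1
      obtain ⟨hc1, hc2⟩ := cusp_of_add (Char.IsIrrCharacter.isCharacter h1) (Char.IsIrrCharacter.isCharacter h2) hcr
      rw [Pi.add_apply] at hres1
      rcases eq_or_eq_of_constituent hθ h1 h2 h5 hne with rfl | rfl
      · exact ⟨hc1, Or.inr (by rw [← hres1, h4]; ring)⟩
      · exact ⟨hc2, Or.inr (by rw [← hres1, h4]; ring)⟩

/-- In characteristic two there is no multiplicative character of order two. -/
theorem sq_eq_one_of_char_two [CharP F 2] {γ : MulChar F ℂ} (h : γ ^ 2 = 1) : γ = 1 := by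
  refine MulChar.ext fun a => ?_
  obtain ⟨s, hs⟩ := exists_sq_eq (a : F)
  have hs0 : s ≠ 0 := fun h0 => a.ne_zero (by rw [← hs, h0, mul_zero])
  have h1 := DFunLike.congr_fun h s
  rw [sq, MulChar.mul_apply, MulChar.one_apply (isUnit_iff_ne_zero.2 hs0)] at h1
  rw [MulChar.one_apply a.isUnit, ← hs, map_mul, h1]

end Cfsg.Agent.GLTwoChar
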