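/-
Unipotent classes of `SL_2` over a finite field.
Main results (namespace `Cfsg.Agent.GLTwoChar`):
* `orderOf_eq_char_iff`: the elements of order `p` are the non-scalar ones of trace `2`.
* `exists_isConj_uSL`, `isConj_uSL_iff`, `card_class_uSL`, `card_class_uSL_two`.
-/
import Cfsg.Agent.Lib.GLTwoChar.Matrix
import Cfsg.Agent.Lib.Char.Orth

set_option autoImplicit false

namespace Cfsg.Agent.GLTwoChar

open Matrix
open scoped MatrixGroups

variable {F : Type*} [Field F]

/-- `[1, b; 0, 1]`. -/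
def uSL (b : F) : SL(2, F) := ⟨!![1, b; 0, 1], by simp [Matrix.det_fin_two]⟩

theorem coe_uSL (b : F) : (uSL b : Matrix (Fin 2) (Fin 2) F) = !![1, b; 0, 1] := rfl

theorem eq_uSL {g : SL(2, F)} (h0 : g 0 0 = 1) (h1 : g 1 1 = 1) (h2 : g 1 0 = 0) : g = uSL (g 0 1) := by
  ext i j
  fin_cases i <;> fin_cases j <;> simp [uSL, h0, h1, h2]

theorem not_isScalar_uSL {b : F} (hb : b ≠ 0) : ¬ IsScalar (uSL b : Matrix (Fin 2) (Fin 2) F) := fun h => hb (by simpa [coe_uSL, IsScalar] using h)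

theorem orderOf_eq_char_iff (p : ℕ) [Fact p.Prime] [CharP F p] (g : SL(2, F)) :
    orderOf g = p ↔ g 0 0 + g 1 1 = 2 ∧ ¬ IsScalar (g : Matrix (Fin 2) (Fin 2) F) := by
  have hp := (Fact.out : p.Prime)
  have key : g ^ p = 1 ↔ ((g : Matrix (Fin 2) (Fin 2) F) - 1) ^ p = 0 := by
    rw [sub_pow_char_of_commute (p := p) (Commute.one_right _), one_pow, sub_eq_zero]
    exact ⟨fun h => (Matrix.SpecialLinearGroup.coe_pow g p).symm.trans
        (congrArg (fun z : SL(2, F) => (z : Matrix (Fin 2) (Fin 2) F)) h),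
      fun h => Subtype.ext ((Matrix.SpecialLinearGroup.coe_pow g p).trans h)⟩
  have hd := GLOrder.SL2_det g
  constructor
  · intro h
    have hnil : IsNilpotent ((g : Matrix (Fin 2) (Fin 2) F) - 1) := ⟨p, key.1 (h ▸ pow_orderOf_eq_one g)⟩
    have ht : g 0 0 + g 1 1 = 2 := by
      have h2 := sub_eq_zero.1 (IsNilpotent.eq_zero (Matrix.isNilpotent_trace_of_isNilpotent hnil) ▸ sub_self (0 : F) : Matrix.trace ((g : Matrix (Fin 2) (Fin 2) F) - 1) - 0 = 0)
      simp [Matrix.trace_fin_two] at h2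
      linear_combination h2
    refine ⟨ht, fun hs => ?_⟩
    have hg : g = 1 := by
      obtain ⟨e1, e2, e3⟩ := hs
      rw [← e3] at ht hd
      rw [e1, zero_mul, sub_zero] at hd
      have hsq : (g 0 0 - 1) ^ 2 = 0 := by linear_combination hd - ht
      have h00 := sub_eq_zero.1 ((pow_eq_zero_iff two_ne_zero).1 hsq)
      ext i j
      fin_cases i <;> fin_cases j <;> simp [e1, e2, ← e3, h00]
    rw [hg, orderOf_one] at h
    exact hp.one_lt.ne h
  · rintro ⟨ht, hns⟩
    have hsq : ((g : Matrix (Fin 2) (Fin 2) F) - 1) ^ 2 = 0 := by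
      ext i j
      fin_cases i <;> fin_cases j <;> simp [sq, Matrix.mul_apply, Fin.sum_univ_two]
      · linear_combination (g 0 0) * ht - hd
      · linear_combination (g 0 1) * ht
      · linear_combination (g 1 0) * ht
      · linear_combination (g 1 1) * ht - hd
    refine orderOf_eq_prime (key.2 (pow_eq_zero_of_le hp.two_le hsq)) (fun h => hns ?_)
    rw [h]
    simp [IsScalar]

theorem qform_uSL (b x y : F) : qform (uSL b : Matrix (Fin 2) (Fin 2) F) x y = -b * (y * y) := by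
  simp [qform, coe_uSL, mul_assoc]

theorem exists_isConj_uSL {g : SL(2, F)} (ht : g 0 0 + g 1 1 = 2) (hs : ¬ IsScalar (g : Matrix (Fin 2) (Fin 2) F)) :
    ∃ b : F, b ≠ 0 ∧ IsConj g (uSL b) := by
  obtain ⟨x, y, h⟩ := exists_qform_ne_zero hs
  refine ⟨-qform (g : Matrix (Fin 2) (Fin 2) F) x y, neg_ne_zero.2 h, isConj_SL ?_ h (z := 0) (w := 1) ?_⟩
  · simp [coe_uSL, ht, one_add_one_eq_two]
  · simp [qform_uSL]

theorem isConj_uSL_iff {b c : F} (hb : b ≠ 0) (hc : c ≠ 0) : IsConj (uSL b) (uSL c) ↔ IsSquare (b * c) := by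
  constructor
  · intro h
    obtain ⟨T, hT⟩ := isConj_iff.1 h
    have e : (T : Matrix (Fin 2) (Fin 2) F) * (uSL b : Matrix (Fin 2) (Fin 2) F) = (uSL c : Matrix (Fin 2) (Fin 2) F) * (T : Matrix (Fin 2) (Fin 2) F) :=
      congrArg (fun z : SL(2, F) => (z : Matrix (Fin 2) (Fin 2) F)) (mul_inv_eq_iff_eq_mul.1 hT)
    have e00 := congrFun (congrFun e 0) 0
    have e01 := congrFun (congrFun e 0) 1
    simp [coe_uSL, Matrix.mul_apply, Fin.sum_univ_two] at e00 e01
    have h10 : T 1 0 = 0 := e00.resolve_left hc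
    have hd := GLOrder.SL2_det T
    rw [h10, mul_zero, sub_zero] at hd
    exact ⟨b * T 0 0, by linear_combination (-b * T 0 0) * e01 - b * c * hd⟩
  · rintro ⟨s, hs⟩
    refine isConj_SL (x := 0) (y := 1) (z := 0) (w := s / c) (by simp [coe_uSL]) ?_ ?_
    · simpa [qform_uSL] using hb
    · simp [qform_uSL]
      field_simp
      linear_combination hs

theorem mem_centralizer_uSL {b : F} (hb : b ≠ 0) (x : SL(2, F)) :
    x ∈ Subgroup.centralizer ({uSL b} : Set SL(2, F)) ↔ x 1 0 = 0 ∧ x 1 1 = x 0 0 := by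
  have hu : SpecialLinearGroup.toGL (uSL b) ∈ GLOrder.upperU F := GLOrder.mem_upperU.2 ⟨rfl, rfl, rfl⟩
  have hu1 : SpecialLinearGroup.toGL (uSL b) ≠ 1 := fun h => hb (by
    have h1 : uSL b = 1 := SpecialLinearGroup.toGL_injective (h.trans (map_one _).symm)
    have := congrArg (fun z : SL(2, F) => z 0 1) h1
    simpa [uSL] using this)
  refine Iff.trans ?_ (GLOrder.mem_centralizer_upperU hu hu1 (SpecialLinearGroup.toGL x))
  rw [Subgroup.mem_centralizer_singleton_iff, Subgroup.mem_centralizer_singleton_iff, ← map_mul, ← map_mul,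
    SpecialLinearGroup.toGL_injective.eq_iff]

/-- The centraliser of `[1, b; 0, 1]` is `{a} × F`. -/
def centralizerEquiv {b : F} (hb : b ≠ 0) :
    Subgroup.centralizer ({uSL b} : Set SL(2, F)) ≃ {a : F // a * a = 1} × F where
  toFun x := (⟨(x : SL(2, F)) 0 0, by
    have h := GLOrder.SL2_det (x : SL(2, F))
    obtain ⟨h1, h2⟩ := (mem_centralizer_uSL hb _).1 x.2
    rw [h1, h2, mul_zero, sub_zero] at h
    exact h⟩, (x : SL(2, F)) 0 1)
  invFun p := ⟨⟨!![p.1, p.2; 0, p.1], by simp [Matrix.det_fin_two, p.1.2]⟩,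
    (mem_centralizer_uSL hb _).2 ⟨rfl, rfl⟩⟩
  left_inv x := by
    obtain ⟨h1, h2⟩ := (mem_centralizer_uSL hb _).1 x.2
    refine Subtype.ext (Subtype.ext ?_)
    ext i j
    fin_cases i <;> fin_cases j <;> simp [h1, h2]
  right_inv p := rfl

variable [Fintype F]

theorem card_class_aux {b : F} (hb : b ≠ 0) :
    Nat.card (ConjClasses.mk (uSL b)).carrier * (Nat.card {a : F // a * a = 1} * Fintype.card F) =
      Fintype.card F * (Fintype.card F ^ 2 - 1) := by
  have h := Char.card_conjugates_mul_card_centralizer (uSL b)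
  rw [Nat.card_congr (centralizerEquiv hb), Nat.card_prod, GLOrder.card_SL_two, Nat.card_eq_fintype_card (α := F)] at h
  rw [← h]
  congr 1

theorem card_class_uSL (h2 : (2 : F) ≠ 0) {b : F} (hb : b ≠ 0) :
    Nat.card (ConjClasses.mk (uSL b)).carrier = (Fintype.card F ^ 2 - 1) / 2 := by
  have h := card_class_aux hb
  have hroots : Nat.card {a : F // a * a = 1} = 2 := by
    have hne : (1 : F) ≠ -1 := fun h => h2 (by linear_combination h)
    rw [Nat.card_eq_two_iff]
    refine ⟨⟨1, one_mul 1⟩, ⟨-1, by ring⟩, by simpa using hne, Set.eq_univ_of_forall fun a => ?_⟩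
    rcases mul_self_eq_one_iff.1 a.2 with h' | h' <;> simp [Subtype.ext_iff, h']
  rw [hroots, ← mul_assoc, mul_comm _ (Fintype.card F)] at h
  have h' := Nat.eq_of_mul_eq_mul_left Fintype.card_pos h
  omega

theorem card_class_uSL_two [CharP F 2] {b : F} (hb : b ≠ 0) :
    Nat.card (ConjClasses.mk (uSL b)).carrier = Fintype.card F ^ 2 - 1 := by
  have h := card_class_aux hb
  have hroots : Nat.card {a : F // a * a = 1} = 1 := by
    rw [Nat.card_eq_one_iff_exists]
    refine ⟨⟨1, one_mul 1⟩, fun a => Subtype.ext ?_⟩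
    rcases mul_self_eq_one_iff.1 a.2 with h' | h'
    · exact h'
    · exact h'.trans (CharTwo.neg_eq 1)
  rw [hroots, one_mul, mul_comm _ (Fintype.card F)] at h
  exact Nat.eq_of_mul_eq_mul_left Fintype.card_pos h

end Cfsg.Agent.GLTwoChar
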