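/-
Counting the irreducible characters of `SL_2(q)`, `q` odd.
Main results (namespace `Cfsg.Agent.GLTwoChar`):
* `card_conjClasses_sl`: `q + 4` classes; `sl_counts`: the characters by kind.
-/
import Cfsg.Agent.Lib.GLTwoChar.SLTable
import Cfsg.Agent.Lib.GLTwoChar.Unipotent

set_option autoImplicit false
set_option linter.unusedSectionVars false

namespace Cfsg.Agent.GLTwoChar

open Matrix Cfsg
open scoped MatrixGroups

variable {F : Type*} [Field F] [Fintype F]

theorem two_ne_zero_of_odd (hodd : Odd (Fintype.card F)) : (2 : F) ≠ 0 := by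
  intro h
  haveI := ringChar.charP F
  have h' : ringChar F = 2 := by
    have h1 : ringChar F ∣ 2 := (CharP.cast_eq_zero_iff F (ringChar F) 2).1 (by exact_mod_cast h)
    exact (Nat.prime_dvd_prime_iff_eq (CharP.char_is_prime F (ringChar F)) Nat.prime_two).1 h1
  have := FiniteField.even_card_of_char_two h'
  rw [Nat.odd_iff] at hodd
  omega

theorem ringChar_ne_two_of_odd (hodd : Odd (Fintype.card F)) : ringChar F ≠ 2 := fun h => by
  have := FiniteField.even_card_of_char_two h
  rw [Nat.odd_iff] at hodd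
  omega

/-- The sign `±1` in `SL_2`. -/
def sgn (b : Bool) : SL(2, F) := if b then 1 else -1

theorem tr_uSL (b : F) : (uSL b : SL(2, F)) 0 0 + (uSL b : SL(2, F)) 1 1 = 2 := by
  simp [coe_uSL, one_add_one_eq_two]

theorem tr_conj {g h : SL(2, F)} (hc : IsConj g h) : g 0 0 + g 1 1 = h 0 0 + h 1 1 := by
  obtain ⟨c, rfl⟩ := isConj_iff.1 hc
  have e : (c : Matrix (Fin 2) (Fin 2) F) * (g : Matrix (Fin 2) (Fin 2) F) * ((c⁻¹ : SL(2, F)) : Matrix (Fin 2) (Fin 2) F) =
      ((c * g * c⁻¹ : SL(2, F)) : Matrix (Fin 2) (Fin 2) F) := by simp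
  rw [← Matrix.trace_fin_two, ← Matrix.trace_fin_two, ← e, Matrix.trace_mul_comm, ← Matrix.mul_assoc,
    show ((c⁻¹ : SL(2, F)) : Matrix (Fin 2) (Fin 2) F) * (c : Matrix (Fin 2) (Fin 2) F) = 1 from
      congrArg (fun z : SL(2, F) => (z : Matrix (Fin 2) (Fin 2) F)) (inv_mul_cancel c), Matrix.one_mul]

theorem card_conjClasses_sl (hodd : Odd (Fintype.card F)) :
    Nat.card (ConjClasses SL(2, F)) = Fintype.card F + 4 := by
  classical
  have h2 := two_ne_zero_of_odd hodd
  have hchar := ringChar_ne_two_of_odd hodd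
  obtain ⟨e, he⟩ := FiniteField.exists_nonsquare hchar
  have he0 : e ≠ 0 := fun h => he ⟨0, by simp [h]⟩
  let bb : Bool → F := fun b => if b then 1 else e
  have hbb : ∀ b, bb b ≠ 0 := fun b => by cases b <;> simp [bb, he0]
  let cp : F → SL(2, F) := fun t => ⟨comp t 1, comp_det t 1⟩
  let T := {t : F // t ≠ 2 ∧ t ≠ -2}
  let Φ : (Bool ⊕ Bool × Bool) ⊕ T → ConjClasses SL(2, F) :=
    Sum.elim (Sum.elim (fun s => ConjClasses.mk (sgn s)) (fun p => ConjClasses.mk (sgn p.1 * uSL (bb p.2))))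
      (fun t => ConjClasses.mk (cp t.1))
  have h22 : (2 : F) ≠ -2 := fun h => h2 (by
    have h4 : (2 : F) * 2 = 0 := by linear_combination h
    simpa using h4)
  have tr1 : ∀ s : Bool, (sgn s : SL(2, F)) 0 0 + (sgn s : SL(2, F)) 1 1 = if s then 2 else -2 := by
    intro s
    cases s <;> simp [sgn, one_add_one_eq_two]
    norm_num
  have tr2 : ∀ p : Bool × Bool, (sgn p.1 * uSL (bb p.2) : SL(2, F)) 0 0 + (sgn p.1 * uSL (bb p.2) : SL(2, F)) 1 1 = if p.1 then 2 else -2 := by
    rintro ⟨s, b⟩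
    cases s <;> simp [sgn, coe_uSL, one_add_one_eq_two]
    norm_num
  have tr3 : ∀ t : T, (cp t.1) 0 0 + (cp t.1) 1 1 = t.1 := fun t => comp_apply_tr _ _
  have sgn_conj : ∀ (s : Bool) (x g : SL(2, F)), x * (sgn s * g) * x⁻¹ = sgn s * (x * g * x⁻¹) := by
    intro s x g
    cases s <;> simp [sgn]
  have sep : ∀ (s s' : Bool), (if s then (2 : F) else -2) = (if s' then 2 else -2) → s = s' := by
    intro s s' h
    cases s <;> cases s' <;> simp at h ⊢
    · exact h22 h.symm
    · exact h22 h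
  have u_ne : ∀ (s : Bool) (b : Bool), ¬ IsConj (sgn s : SL(2, F)) (sgn s * uSL (bb b)) := by
    intro s b h
    obtain ⟨x, hx⟩ := isConj_iff.1 h
    have hsg : x * sgn s * x⁻¹ = (sgn s : SL(2, F)) := by cases s <;> simp [sgn]
    rw [hsg] at hx
    have h1 := congrArg (fun z : SL(2, F) => z 0 1) (mul_eq_left.1 hx.symm)
    simp [coe_uSL] at h1
    exact hbb b h1
  have hbij : Function.Bijective Φ := by
    constructor
    · rintro ((s | p) | t) ((s' | p') | t') h <;> have h' := ConjClasses.mk_eq_mk_iff_isConj.1 h <;> have ht := tr_conj h'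
      · rw [tr1, tr1] at ht
        rw [sep s s' ht]
      · rw [tr1, tr2] at ht
        obtain rfl := sep _ _ ht
        exact absurd h' (u_ne _ _)
      · rw [tr1, tr3] at ht
        cases s <;> simp at ht
        · exact absurd ht.symm t'.2.2
        · exact absurd ht.symm t'.2.1
      · rw [tr2, tr1] at ht
        obtain rfl := sep _ _ ht
        exact absurd h'.symm (u_ne _ _)
      · rw [tr2, tr2] at ht
        obtain ⟨s, b⟩ := p
        obtain ⟨s', b'⟩ := p'
        obtain rfl := sep _ _ ht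
        obtain ⟨x, hx⟩ := isConj_iff.1 h'
        rw [sgn_conj] at hx
        have hc : IsConj (uSL (bb b)) (uSL (bb b')) := isConj_iff.2 ⟨x, mul_left_cancel hx⟩
        rw [isConj_uSL_iff (hbb b) (hbb b')] at hc
        cases b <;> cases b' <;> simp only [bb, if_true, Bool.false_eq_true, if_false, one_mul, mul_one] at hc
        · rfl
        · exact absurd hc he
        · exact absurd hc he
        · rfl
      · rw [tr2, tr3] at ht
        obtain ⟨s, b⟩ := p
        cases s <;> simp at ht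
        · exact absurd ht.symm t'.2.2
        · exact absurd ht.symm t'.2.1
      · rw [tr3, tr1] at ht
        cases s' <;> simp at ht
        · exact absurd ht t.2.2
        · exact absurd ht t.2.1
      · rw [tr3, tr2] at ht
        obtain ⟨s, b⟩ := p'
        cases s <;> simp at ht
        · exact absurd ht t.2.2
        · exact absurd ht t.2.1
      · rw [tr3, tr3] at ht
        rw [Subtype.ext ht]
    · intro C
      obtain ⟨g, rfl⟩ := ConjClasses.mk_surjective C
      have unip : ∀ (s : Bool) (g : SL(2, F)), g 0 0 + g 1 1 = 2 → ¬ IsScalar (g : Matrix (Fin 2) (Fin 2) F) →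
          ∃ b, ConjClasses.mk (sgn s * uSL (bb b)) = ConjClasses.mk (sgn s * g) := by
        intro s g ht hg
        obtain ⟨c, hc, hgc⟩ := exists_isConj_uSL ht hg
        have key : ∀ b, IsSquare (c * bb b) → ConjClasses.mk (sgn s * uSL (bb b)) = ConjClasses.mk (sgn s * g) := by
          intro b hb
          obtain ⟨x, hx⟩ := isConj_iff.1 (hgc.trans ((isConj_uSL_iff hc (hbb b)).2 hb)).symm
          exact ConjClasses.mk_eq_mk_iff_isConj.2 (isConj_iff.2 ⟨x, by rw [sgn_conj, hx]⟩)
        by_cases hs : IsSquare c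
        · exact ⟨true, key true (by simpa [bb] using hs)⟩
        · refine ⟨false, key false ?_⟩
          rw [FiniteField.isSquare_iff hchar (mul_ne_zero hc (hbb false)), mul_pow,
            (FiniteField.pow_dichotomy hchar hc).resolve_left (fun h => hs ((FiniteField.isSquare_iff hchar hc).2 h)),
            (FiniteField.pow_dichotomy hchar (hbb false)).resolve_left (fun h => he (by
              have := (FiniteField.isSquare_iff hchar (hbb false)).2 h
              simpa [bb] using this))]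
          ring
      by_cases hg : IsScalar (g : Matrix (Fin 2) (Fin 2) F)
      · obtain ⟨a, ha⟩ := isScalar_iff.1 hg
        have h1 : a * a = 1 := by
          have := g.2
          rw [ha, Matrix.det_smul, Matrix.det_one, mul_one, Fintype.card_fin, sq] at this
          exact this
        rcases mul_self_eq_one_iff.1 h1 with rfl | rfl
        · exact ⟨Sum.inl (Sum.inl true), congrArg ConjClasses.mk (Subtype.ext (by simp [sgn, ha]))⟩
        · exact ⟨Sum.inl (Sum.inl false), congrArg ConjClasses.mk (Subtype.ext (by simp [sgn, ha]))⟩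
      by_cases ht : g 0 0 + g 1 1 = 2
      · obtain ⟨b, hb⟩ := unip true g ht hg
        refine ⟨Sum.inl (Sum.inr (true, b)), ?_⟩
        simpa [Φ, sgn] using hb
      by_cases ht' : g 0 0 + g 1 1 = -2
      · obtain ⟨b, hb⟩ := unip false (-g) (by simp; linear_combination -ht') (fun h => hg (by
          obtain ⟨a, b', c⟩ := h
          simp at a b' c
          exact ⟨a, b', c⟩))
        refine ⟨Sum.inl (Sum.inr (false, b)), ?_⟩
        simpa [Φ, sgn] using hb
      · refine ⟨Sum.inr ⟨g 0 0 + g 1 1, ht, ht'⟩, ConjClasses.mk_eq_mk_iff_isConj.2 (IsConj.symm ?_)⟩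
        have hd : (g 0 0 + g 1 1) ^ 2 - 4 * (g : Matrix (Fin 2) (Fin 2) F).det ≠ 0 := by
          rw [g.2]
          intro h
          have h' : (g 0 0 + g 1 1 - 2) * (g 0 0 + g 1 1 + 2) = 0 := by linear_combination h
          rcases mul_eq_zero.1 h' with h'' | h''
          · exact ht (sub_eq_zero.1 h'')
          · exact ht' (eq_neg_of_add_eq_zero_left h'')
        obtain ⟨x, y, hxy⟩ := exists_qform_eq h2 hd 1
        refine isConj_SL (comp_apply_tr _ _).symm (x := x) (y := y) (z := 1) (w := 0) (by rw [hxy]; exact one_ne_zero) ?_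
        rw [hxy]
        change 1 = qform (comp _ 1) 1 0
        rw [qform_comp]; ring
  rw [← Nat.card_congr (Equiv.ofBijective Φ hbij), Nat.card_sum, Nat.card_sum, Nat.card_prod]
  have hT : Nat.card T = Fintype.card F - 2 := by
    rw [Nat.card_eq_fintype_card, Fintype.card_subtype]
    rw [show (Finset.univ.filter fun t : F => t ≠ 2 ∧ t ≠ -2) = (Finset.univ : Finset F) \ {2, -2} by ext; simp]
    rw [Finset.card_sdiff, Finset.inter_univ, Finset.card_pair h22, Finset.card_univ]
  rw [hT, Nat.card_eq_fintype_card (α := Bool), Fintype.card_bool]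
  have := Fintype.one_lt_card (α := F)
  omega

variable [DecidableEq F]

theorem card_sq_eq_one (hodd : Odd (Fintype.card F)) : Nat.card {γ : MulChar F ℂ // γ ^ 2 = 1} = 2 := by
  let E := (MulChar.mulEquiv_units F ℂ).some
  rw [Nat.card_congr (E.toEquiv.subtypeEquiv (q := fun u : Fˣ => u ^ 2 = 1) fun γ => by
    rw [MulEquiv.toEquiv_eq_coe, MulEquiv.coe_toEquiv, ← map_pow, E.map_eq_one_iff])]
  have hne : (1 : Fˣ) ≠ -1 := fun h => two_ne_zero_of_odd hodd (by
    have := congrArg Units.val h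
    simp at this
    linear_combination this)
  rw [Nat.card_eq_two_iff]
  refine ⟨⟨1, one_pow 2⟩, ⟨-1, neg_one_sq⟩, fun h => hne (congrArg Subtype.val h), Set.eq_univ_of_forall fun a => ?_⟩
  have ha : ((a.1 : Fˣ) : F) * a.1 = 1 := by rw [← Units.val_mul, ← sq, a.2, Units.val_one]
  rcases mul_self_eq_one_iff.1 ha with h | h
  · exact Or.inl (Subtype.ext (Units.ext h))
  · exact Or.inr (Subtype.ext (Units.ext (by simpa using h)))

theorem quadratic_unique (hodd : Odd (Fintype.card F)) {γ η : MulChar F ℂ} (h1 : γ ≠ 1) (h2 : γ ^ 2 = 1)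
    (h3 : η ≠ 1) (h4 : η ^ 2 = 1) : γ = η := by
  obtain ⟨x, y, -, hu⟩ := Nat.card_eq_two_iff.1 (card_sq_eq_one hodd)
  have hall : ∀ z : {γ : MulChar F ℂ // γ ^ 2 = 1}, z = x ∨ z = y := fun z => by
    have : z ∈ ({x, y} : Set _) := hu.symm ▸ Set.mem_univ z
    simpa using this
  rcases hall ⟨1, one_pow 2⟩ with e | e <;> rcases hall ⟨γ, h2⟩ with e1 | e1 <;> rcases hall ⟨η, h4⟩ with e2 | e2 <;>
    first
      | exact congrArg Subtype.val (e1.trans e2.symm)
      | exact absurd (congrArg Subtype.val (e1.trans e.symm)) h1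
      | exact absurd (congrArg Subtype.val (e2.trans e.symm)) h3

theorem card_psS_irr (hodd : Odd (Fintype.card F)) :
    2 * Nat.card {θ : IrrCharacter SL(2, F) // ∃ γ : MulChar F ℂ, γ ^ 2 ≠ 1 ∧ (θ : SL(2, F) → ℂ) = psS γ} =
      Fintype.card F - 3 := by
  classical
  haveI : Finite (MulChar F ℂ) := Nat.finite_of_card_ne_zero (by rw [card_mulChar]; have := Fintype.one_lt_card (α := F); omega)
  haveI := Fintype.ofFinite (IrrCharacter SL(2, F))
  let S := {γ : MulChar F ℂ // γ ^ 2 ≠ 1}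
  let C := {θ : IrrCharacter SL(2, F) // ∃ γ : MulChar F ℂ, γ ^ 2 ≠ 1 ∧ (θ : SL(2, F) → ℂ) = psS γ}
  let f : S → C := fun γ => ⟨⟨psS γ.1, (psS_irr_iff _).2 γ.2⟩, γ.1, γ.2, rfl⟩
  have hfib : ∀ c : C, Nat.card {γ : S // f γ = c} = 2 := by
    rintro ⟨⟨θ, hθ⟩, γ, hγ, heq⟩
    simp only at heq
    subst heq
    have hinv : γ⁻¹ ^ 2 ≠ 1 := by rw [inv_pow]; exact fun h => hγ (inv_eq_one.1 h)
    rw [Nat.card_eq_two_iff]
    refine ⟨⟨⟨γ, hγ⟩, rfl⟩, ⟨⟨γ⁻¹, hinv⟩, Subtype.ext (Subtype.ext ((psS_eq_iff _ _).2 (Or.inr rfl)))⟩, ?_, Set.eq_univ_of_forall ?_⟩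
    · intro h
      apply hγ
      rw [sq]
      have h' : γ = γ⁻¹ := congrArg (fun z : {x : S // f x = _} => z.1.1) h
      nth_rewrite 2 [h']
      exact mul_inv_cancel _
    · rintro ⟨⟨δ, hδ⟩, hd⟩
      rcases (psS_eq_iff δ γ).1 (congrArg (fun z : C => (z.1 : SL(2, F) → ℂ)) hd) with rfl | rfl
      · exact Or.inl rfl
      · exact Or.inr rfl
  have hS : Nat.card S = Fintype.card F - 3 := by
    haveI := Fintype.ofFinite (MulChar F ℂ)
    have h1 := card_sq_eq_one hodd
    rw [Nat.card_eq_fintype_card] at h1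
    rw [Nat.card_eq_fintype_card, Fintype.card_subtype_compl, h1, ← Nat.card_eq_fintype_card, card_mulChar]
    omega
  haveI := Fintype.ofFinite C
  rw [← hS, ← Nat.card_congr (Equiv.sigmaFiberEquiv f), Nat.card_sigma, Finset.sum_congr rfl (fun c _ => hfib c),
    Finset.sum_const, smul_eq_mul, Finset.card_univ, ← Nat.card_eq_fintype_card, mul_comm]

/-- The non-cuspidal pair from the quadratic character. -/
theorem exists_half (hodd : Odd (Fintype.card F)) :
    ∃ χ χ' : SL(2, F) → ℂ, IsIrrCharacter SL(2, F) χ ∧ IsIrrCharacter SL(2, F) χ' ∧ χ ≠ χ' ∧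
      2 * χ 1 = (Fintype.card F : ℂ) + 1 ∧ 2 * χ' 1 = (Fintype.card F : ℂ) + 1 ∧
      ¬ (slDatum F).Cusp χ ∧ ¬ (slDatum F).Cusp χ' ∧
      ∀ θ, IsIrrCharacter SL(2, F) θ → (∀ γ : MulChar F ℂ, γ ≠ 1 → γ ^ 2 = 1 → classInner θ (psS γ) ≠ 0 → θ = χ ∨ θ = χ') := by
  classical
  obtain ⟨η, hη1, hη2⟩ : ∃ η : MulChar F ℂ, η ≠ 1 ∧ η ^ 2 = 1 := by
    obtain ⟨x, y, hxy, -⟩ := Nat.card_eq_two_iff.1 (card_sq_eq_one hodd)
    by_cases hx : x.1 = 1
    · exact ⟨y.1, fun hy => hxy (Subtype.ext (hx.trans hy.symm)), y.2⟩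
    · exact ⟨x.1, hx, x.2⟩
  have hres : res (ps η 1) = psS η := by rw [res_ps, inv_one, mul_one]
  rcases res_split (ps_irr hη1) with h | ⟨χ, χ', h1, h2, h3, h4, h5⟩
  · rw [hres] at h
    exact absurd hη2 ((psS_irr_iff η).1 h)
  rw [hres] at h5
  have hsum : χ 1 + χ' 1 = (Fintype.card F : ℂ) + 1 := by rw [← Pi.add_apply, ← h5, psS_one]
  have ne0 : ∀ φ φ', IsIrrCharacter SL(2, F) φ → IsIrrCharacter SL(2, F) φ' → φ ≠ φ' → psS η = φ + φ' → classInner φ (psS η) ≠ 0 := by
    intro φ φ' a b c d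
    rw [d, Char.classInner_add_right, Char.classInner_irr_self a, Char.classInner_irr_of_ne a b c]
    simp
  refine ⟨χ, χ', h1, h2, h3, by linear_combination hsum + h4, by linear_combination hsum - h4,
    not_cusp_of_psS (Char.IsIrrCharacter.isCharacter h1) (ne0 χ χ' h1 h2 h3 h5),
    not_cusp_of_psS (Char.IsIrrCharacter.isCharacter h2) (ne0 χ' χ h2 h1 h3.symm (by rw [h5, add_comm])), fun θ hθ γ g1 g2 g3 => ?_⟩
  rw [quadratic_unique hodd g1 g2 hη1 hη2] at g3
  exact eq_or_eq_of_constituent hθ h1 h2 h5 g3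

/-- All kinds with multiplicities. -/
theorem sl_counts (hodd : Odd (Fintype.card F)) :
    Nat.card {θ : IrrCharacter SL(2, F) // (slDatum F).Cusp (θ : SL(2, F) → ℂ) ∧ 2 * (θ : SL(2, F) → ℂ) 1 = (Fintype.card F : ℂ) - 1} = 2 ∧
    Nat.card {θ : IrrCharacter SL(2, F) // (slDatum F).Cusp (θ : SL(2, F) → ℂ) ∧ (θ : SL(2, F) → ℂ) 1 = (Fintype.card F : ℂ) - 1} = (Fintype.card F - 1) / 2 := by
  classical
  haveI := Fintype.ofFinite (IrrCharacter SL(2, F))
  have hq : 3 ≤ Fintype.card F := by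
    have := Fintype.one_lt_card (α := F)
    rw [Nat.odd_iff] at hodd
    omega
  obtain ⟨χ, χ', h1, h2, h3, hd, hd', hnc, hnc', hhalf⟩ := exists_half hodd
  let C := {θ : IrrCharacter SL(2, F) // ∃ γ : MulChar F ℂ, γ ^ 2 ≠ 1 ∧ (θ : SL(2, F) → ℂ) = psS γ}
  let K := {θ : IrrCharacter SL(2, F) // (slDatum F).Cusp (θ : SL(2, F) → ℂ)}
  let Φ : ((Bool ⊕ Bool) ⊕ C) ⊕ K → IrrCharacter SL(2, F) :=
    Sum.elim (Sum.elim (Sum.elim (fun b => if b then ⟨1, Char.isIrrCharacter_one⟩ else ⟨stS F, stS_irr⟩)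
      (fun b => if b then ⟨χ, h1⟩ else ⟨χ', h2⟩)) Subtype.val) Subtype.val
  have hqr : (3 : ℝ) ≤ (Fintype.card F : ℝ) := by exact_mod_cast hq
  have cC : ∀ c : C, ((c.1 : IrrCharacter SL(2, F)) : SL(2, F) → ℂ) 1 = (Fintype.card F : ℂ) + 1 := by
    rintro ⟨θ, γ, -, h⟩; rw [h, psS_one]
  have cnc : ∀ c : C, ¬ (slDatum F).Cusp (c.1 : SL(2, F) → ℂ) := by
    intro c
    obtain ⟨γ, hγ, h⟩ := c.2
    refine not_cusp_of_psS (Char.IsIrrCharacter.isCharacter c.1.2) (γ := γ) ?_
    rw [← h, Char.classInner_irr_self c.1.2]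
    exact one_ne_zero
  have v : ∀ i, 2 * ((Φ i : IrrCharacter SL(2, F)) : SL(2, F) → ℂ) 1 = Sum.elim (Sum.elim (Sum.elim (fun b => if b then (2 : ℂ) else 2 * Fintype.card F) (fun _ => (Fintype.card F : ℂ) + 1)) (fun _ => 2 * ((Fintype.card F : ℂ) + 1))) (fun k => 2 * ((k : K).1 : SL(2, F) → ℂ) 1) i := by
    rintro (((b | b) | c) | k)
    · cases b <;> simp [Φ, stS_one]
    · cases b <;> simp [Φ, hd, hd']
    · simp [Φ, cC]
    · rfl
  have ncl : ∀ i, ¬ (slDatum F).Cusp ((Φ (Sum.inl i) : IrrCharacter SL(2, F)) : SL(2, F) → ℂ) := by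
    rintro ((b | b) | c)
    · cases b
      · exact not_cusp_stS
      · exact not_cusp_one
    · cases b
      · exact hnc'
      · exact hnc
    · exact cnc c
  have hbij : Function.Bijective Φ := by
    constructor
    · rintro (i | k) (i' | k') h
      · have hv := congrArg (fun z : IrrCharacter SL(2, F) => 2 * (z : SL(2, F) → ℂ) 1) h
        simp only [v] at hv
        rcases i with (b | b) | c <;> rcases i' with (b' | b') | c'
        · cases b <;> cases b' <;> first
            | rfl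
            | (simp at hv; first | omega | (have := congrArg Complex.re hv; simp at this; linarith))
        · cases b <;> simp at hv <;> (have := congrArg Complex.re hv; simp at this; linarith)
        · cases b <;> simp at hv <;> (have := congrArg Complex.re hv; simp at this; linarith)
        · cases b' <;> simp at hv <;> (have := congrArg Complex.re hv; simp at this; linarith)
        · cases b <;> cases b' <;> first
            | rfl
            | exact absurd (congrArg Subtype.val h) h3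
            | exact absurd (congrArg Subtype.val h) h3.symm
        · simp at hv; have := congrArg Complex.re hv; simp at this; linarith
        · cases b' <;> simp at hv <;> (have := congrArg Complex.re hv; simp at this; linarith)
        · simp at hv; have := congrArg Complex.re hv; simp at this; linarith
        · simp only [Φ, Sum.elim_inl, Sum.elim_inr] at h
          rw [Subtype.ext h]
      · exact absurd (h ▸ k'.2 : (slDatum F).Cusp ((Φ (Sum.inl i) : IrrCharacter SL(2, F)) : SL(2, F) → ℂ)) (ncl i)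
      · exact absurd (h.symm ▸ k.2 : (slDatum F).Cusp ((Φ (Sum.inl i') : IrrCharacter SL(2, F)) : SL(2, F) → ℂ)) (ncl i')
      · simp only [Φ, Sum.elim_inr] at h
        rw [Subtype.ext h]
    · rintro ⟨θ, hθ⟩
      rcases sl_cases hθ with rfl | rfl | ⟨γ, hγ, rfl⟩ | ⟨γ, g1, g2, g3, -⟩ | ⟨hc, -⟩
      · exact ⟨Sum.inl (Sum.inl (Sum.inl true)), rfl⟩
      · exact ⟨Sum.inl (Sum.inl (Sum.inl false)), rfl⟩
      · exact ⟨Sum.inl (Sum.inr ⟨⟨_, hθ⟩, γ, hγ, rfl⟩), rfl⟩
      · rcases hhalf θ hθ γ g1 g2 g3 with rfl | rfl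
        · exact ⟨Sum.inl (Sum.inl (Sum.inr true)), rfl⟩
        · exact ⟨Sum.inl (Sum.inl (Sum.inr false)), rfl⟩
      · exact ⟨Sum.inr ⟨⟨θ, hθ⟩, hc⟩, rfl⟩
  obtain ⟨m, hm⟩ := hodd
  have hodd : Odd (Fintype.card F) := ⟨m, hm⟩
  have hC := card_psS_irr hodd
  have hcount := Nat.card_congr (Equiv.ofBijective Φ hbij)
  rw [Nat.card_sum, Nat.card_sum, Nat.card_sum, Char.card_irr_eq_card_conjClasses, card_conjClasses_sl hodd,
    Nat.card_eq_fintype_card (α := Bool), Fintype.card_bool] at hcount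
  have hK : Nat.card K = m + 2 := by change 2 + 2 + Nat.card C + Nat.card K = _ at hcount; change 2 * Nat.card C = _ at hC; omega
  haveI : Fintype K := Fintype.ofFinite _
  haveI : Fintype C := Fintype.ofFinite _
  have hsum := Char.sum_sq_degrees (G := SL(2, F))
  rw [← (Equiv.ofBijective Φ hbij).sum_comp] at hsum
  have hsum2 : ∑ i, (2 * ((Φ i : IrrCharacter SL(2, F)) : SL(2, F) → ℂ) 1) ^ 2 = 4 * (Nat.card SL(2, F) : ℂ) := by
    rw [← hsum, Finset.mul_sum]
    exact Finset.sum_congr rfl fun i _ => by rw [Equiv.ofBijective_apply]; ring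
  simp only [v, Fintype.sum_sum_type, Sum.elim_inl, Sum.elim_inr, Fintype.sum_bool, Finset.sum_const, Finset.card_univ,
    nsmul_eq_mul, if_true, Bool.false_eq_true, if_false, GLOrder.card_SL_two, Nat.card_eq_fintype_card (α := F)] at hsum2
  set P : K → Prop := fun k => 2 * (k.1 : SL(2, F) → ℂ) 1 = (Fintype.card F : ℂ) - 1
  have hval : ∀ k : K, (2 * (k.1 : SL(2, F) → ℂ) 1) ^ 2 =
      ((Fintype.card F : ℂ) - 1) ^ 2 * (if P k then 1 else 4) := by
    intro k
    by_cases hk : P k
    · rw [if_pos hk, hk, mul_one]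
    · rw [if_neg hk]
      rcases sl_cases k.1.2 with h | h | ⟨γ, hγ, h⟩ | ⟨γ, -, -, g3, -⟩ | ⟨-, ⟨h, -⟩ | h⟩
      · exact absurd (h ▸ k.2) not_cusp_one
      · exact absurd (h ▸ k.2) not_cusp_stS
      · refine absurd k.2 (not_cusp_of_psS (Char.IsIrrCharacter.isCharacter k.1.2) (γ := γ) ?_)
        rw [← h, Char.classInner_irr_self k.1.2]; exact one_ne_zero
      · exact absurd k.2 (not_cusp_of_psS (Char.IsIrrCharacter.isCharacter k.1.2) g3)
      · rw [h]; ring
      · exact absurd h hk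
  rw [Finset.sum_congr rfl (fun k _ => hval k), ← Finset.mul_sum, Finset.sum_ite, Finset.sum_const, Finset.sum_const,
    nsmul_eq_mul, nsmul_eq_mul, mul_one] at hsum2
  have hsplit := Finset.card_filter_add_card_filter_not (s := (Finset.univ : Finset K)) P
  rw [Finset.card_univ, ← Nat.card_eq_fintype_card (α := K), hK] at hsplit
  have hCm : Fintype.card C + 1 = m := by
    rw [← Nat.card_eq_fintype_card]
    change 2 * Nat.card C = _ at hC
    omega
  rw [Fintype.card_bool, Nat.cast_ofNat] at hsum2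
  set f := (Finset.univ.filter P).card with hfdef
  set d := (Finset.univ.filter fun k => ¬ P k).card with hddef
  clear_value f d
  rw [hm] at hsum2
  push_cast at hsum2
  rw [Nat.cast_sub (Nat.one_le_pow _ _ (by omega))] at hsum2
  have hm0 : ((m : ℂ)) ≠ 0 := Nat.cast_ne_zero.2 (by omega)
  have hrel : (f : ℂ) + d * 4 = 4 * m + 2 := by
    refine mul_left_cancel₀ (mul_ne_zero (show (4 : ℂ) ≠ 0 by norm_num) (pow_ne_zero 2 hm0)) ?_
    have hCm' : (Fintype.card C : ℂ) = (m : ℂ) - 1 := by rw [← hCm]; push_cast; ring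
    rw [hCm'] at hsum2
    push_cast at hsum2
    linear_combination hsum2
  have hrel' : f + d * 4 = 4 * m + 2 := by exact_mod_cast hrel
  have hf : f = 2 := by omega
  have hd2 : d = m := by omega
  constructor
  · refine Eq.trans (Nat.card_congr ((Equiv.subtypeSubtypeEquivSubtypeInter (fun θ : IrrCharacter SL(2, F) => (slDatum F).Cusp (θ : SL(2, F) → ℂ)) (fun θ => 2 * (θ : SL(2, F) → ℂ) 1 = (Fintype.card F : ℂ) - 1)).symm)) ?_
    rw [Nat.card_eq_fintype_card, Fintype.card_subtype]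
    exact hfdef.symm.trans hf
  · refine Eq.trans (Nat.card_congr ((Equiv.subtypeSubtypeEquivSubtypeInter (fun θ : IrrCharacter SL(2, F) => (slDatum F).Cusp (θ : SL(2, F) → ℂ)) (fun θ => (θ : SL(2, F) → ℂ) 1 = (Fintype.card F : ℂ) - 1)).symm)) ?_
    rw [Nat.card_eq_fintype_card, Fintype.card_subtype, show (Fintype.card F - 1) / 2 = m by omega]
    refine Eq.trans (congrArg Finset.card (Finset.filter_congr fun k _ => ⟨fun h hk => ?_, fun hk => ?_⟩)) (hddef.symm.trans hd2)
    · have hk' : 2 * (k.1 : SL(2, F) → ℂ) 1 = (Fintype.card F : ℂ) - 1 := hk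
      rw [h] at hk'
      have := congrArg Complex.re hk'
      simp at this; linarith
    · have := hval k
      rcases sl_cases k.1.2 with h | h | ⟨γ, hγ, h⟩ | ⟨γ, -, -, g3, -⟩ | ⟨-, ⟨h, -⟩ | h⟩
      · exact absurd (h ▸ k.2) not_cusp_one
      · exact absurd (h ▸ k.2) not_cusp_stS
      · refine absurd k.2 (not_cusp_of_psS (Char.IsIrrCharacter.isCharacter k.1.2) (γ := γ) ?_)
        rw [← h, Char.classInner_irr_self k.1.2]; exact one_ne_zero
      · exact absurd k.2 (not_cusp_of_psS (Char.IsIrrCharacter.isCharacter k.1.2) g3)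
      · exact h
      · exact absurd h hk

end Cfsg.Agent.GLTwoChar
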